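import Groth.Agent.GmFppf.Core
import Groth.Agent.EtFppfCmp.AcyPull

/-!
# The rings of functions of the fibre powers of a finite flat cover of an affine scheme
-/

set_option autoImplicit false
set_option linter.style.haveILetI false
set_option backward.isDefEq.respectTransparency.types false

universe u

open CategoryTheory CategoryTheory.Limits AlgebraicGeometry Opposite TensorProduct

noncomputable section

namespace Groth.Agent.GmFppf

open Groth.Agent.EtaleSite Groth.Agent.EtFppfCmp

variable {S : Scheme.{u}} {V T : Over S} (w : V ⟶ T)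

/-- Properties stable under base change and composition pass to the fibre powers. -/
theorem prop_powHom (P : MorphismProperty Scheme.{u}) [P.IsStableUnderBaseChange]
    [P.IsStableUnderComposition] [P.RespectsIso] (hw : P w.left) : ∀ n : ℕ, P (powHom w n).left
  | 0 => by
    let a : pow w 0 ⟶ V := (powTup w 0).pt 0
    let b : V ⟶ pow w 0 := toPow (mkTp (fun _ => 𝟙 V) fun _ => rfl)
    have hba : b ≫ a = 𝟙 V := CechPre.toObj_π (fam w) _ 0
    have hab : a ≫ b = 𝟙 _ := by
      refine CechPre.hom_ext (fam w) fun k => ?_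
      obtain rfl := Subsingleton.elim (α := Fin 1) k 0
      exact (Category.assoc _ _ _).trans ((congrArg (a ≫ ·) hba).trans
        ((Category.comp_id _).trans (Category.id_comp _).symm))
    have he : powHom w 0 = a ≫ w := (CechPre.π_hom (fam w) _ 0).symm
    have : IsIso a := ⟨⟨b, hab, hba⟩⟩
    have : IsIso a.left := inferInstanceAs (IsIso ((Over.forget S).map a))
    rw [he, Over.comp_left]
    exact (P.cancel_left_of_respectsIso a.left w.left).2 hw
  | n + 1 => by
    have ih := prop_powHom P hw n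
    let Q := bcObj (powHom w n) w
    let f : Q ⟶ pow w (n + 1) := toPow (mkTp
      (Fin.cons (bcSnd (powHom w n) w) fun k => bcHom (powHom w n) w ≫ (powTup w n).pt k) (by
        intro k
        induction k using Fin.cases with
        | zero => rfl
        | succ j =>
          simp only [Fin.cons_succ, Fin.cons_zero, Category.assoc]
          exact (congrArg (bcHom (powHom w n) w ≫ ·) (CechPre.π_hom (fam w) _ j)).trans
            (bc_condition (powHom w n) w)))
    let r : pow w (n + 1) ⟶ pow w n := toPow (CechPre.tupFace (fam w) 0 (powTup w (n + 1)))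
    let i : pow w (n + 1) ⟶ Q := bcLift r ((powTup w (n + 1)).pt 0) (by
      rw [toPow_hom]
      exact (powTup w (n + 1)).2 _)
    have hfi : i ≫ f = 𝟙 _ := by
      refine CechPre.hom_ext (fam w) fun k => ?_
      refine (Category.assoc _ _ _).trans ((congrArg (i ≫ ·) (CechPre.toObj_π (fam w) _ k)).trans ?_)
      rw [Category.id_comp]
      induction k using Fin.cases with
      | zero => exact bcLift_snd _ _ _
      | succ j =>
        show i ≫ Fin.cons (α := fun _ => Q ⟶ V) _ _ j.succ = _
        rw [Fin.cons_succ, ← Category.assoc, bcLift_hom]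
        refine (CechPre.toObj_π (fam w) _ j).trans ?_
        simp [CechPre.tupFace, CechPre.taut]
    have hif : f ≫ i = 𝟙 _ := by
      refine bc_hom_ext ?_ ?_
      · rw [Category.assoc, bcLift_hom, Category.id_comp]
        refine CechPre.hom_ext (fam w) fun k => ?_
        refine (Category.assoc _ _ _).trans ((congrArg (f ≫ ·) (CechPre.toObj_π (fam w) _ k)).trans ?_)
        refine (congrArg (f ≫ ·) (show _ = (powTup w (n + 1)).pt k.succ by
          simp [CechPre.tupFace, Tp.pt])).trans ?_
        exact (CechPre.toObj_π (fam w) _ k.succ).trans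
          (Fin.cons_succ (α := fun _ => Q ⟶ V) (bcSnd (powHom w n) w)
            (fun j => bcHom (powHom w n) w ≫ (powTup w n).pt j) k)
      · rw [Category.assoc, bcLift_snd, Category.id_comp]
        exact (CechPre.toObj_π (fam w) _ 0).trans
          (Fin.cons_zero (α := fun _ => Q ⟶ V) (bcSnd (powHom w n) w)
            (fun j => bcHom (powHom w n) w ≫ (powTup w n).pt j))
    have : IsIso i := ⟨⟨f, hfi, hif⟩⟩
    have : IsIso i.left := inferInstanceAs (IsIso ((Over.forget S).map i))
    have he : powHom w (n + 1) = i ≫ bcHom (powHom w n) w ≫ powHom w n := by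
      rw [← Category.assoc, bcLift_hom, toPow_hom]
      exact ((powTup w (n + 1)).2 _ |>.trans (CechPre.π_hom (fam w) _ 0)).symm
    rw [he, Over.comp_left, Over.comp_left]
    refine (P.cancel_left_of_respectsIso i.left _).2 (P.comp_mem _ _ ?_ ih)
    exact MorphismProperty.pullback_fst (P := P) (powHom w n).left w.left hw

instance algebraPow (n : ℕ) : Algebra Γ(T.left, ⊤) Γ((pow w n).left, ⊤) :=
  (powHom w n).left.appTop.hom.toAlgebra

theorem algebraMap_pow (n : ℕ) :
    algebraMap Γ(T.left, ⊤) Γ((pow w n).left, ⊤) = (powHom w n).left.appTop.hom := rfl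

section Face

variable {n m : ℕ} (τ : Fin (n + 1) → Fin (m + 1))

/-- Reindexing of the fibre powers. -/
def faceMor : pow w m ⟶ pow w n :=
  toPow (mkTp (fun i => (powTup w m).pt (τ i)) fun _ =>
    ((powTup w m).2 _).trans ((powTup w m).2 _).symm)

theorem faceMor_hom : faceMor w τ ≫ powHom w n = powHom w m := by
  rw [faceMor, toPow_hom]
  exact CechPre.π_hom (fam w) _ _

theorem faceMor_pt (k : Fin (n + 1)) : faceMor w τ ≫ (powTup w n).pt k = (powTup w m).pt (τ k) :=
  CechPre.toObj_π (fam w) _ k

theorem faceMor_comp {l : ℕ} (τ' : Fin (m + 1) → Fin (l + 1)) :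
    faceMor w τ' ≫ faceMor w τ = faceMor w (τ' ∘ τ) :=
  CechPre.hom_ext (fam w) fun k => (Category.assoc _ _ _).trans
    ((congrArg (faceMor w τ' ≫ ·) (faceMor_pt w τ k)).trans
      ((faceMor_pt w τ' (τ k)).trans (faceMor_pt w (τ' ∘ τ) k).symm))

theorem toPow_faceMor {W : Over S} (t : Tp w W m) (t' : Tp w W n)
    (h : ∀ k, t'.pt k = t.pt (τ k)) : toPow t ≫ faceMor w τ = toPow t' :=
  CechPre.hom_ext (fam w) fun k => (Category.assoc _ _ _).trans
    ((congrArg (toPow t ≫ ·) (faceMor_pt w τ k)).trans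
      ((CechPre.toObj_π (fam w) t (τ k)).trans
        ((h k).symm.trans (CechPre.toObj_π (fam w) t' k).symm)))

/-- Reindexing on functions. -/
def faceAlg : Γ((pow w n).left, ⊤) →ₐ[Γ(T.left, ⊤)] Γ((pow w m).left, ⊤) where
  toRingHom := (faceMor w τ).left.appTop.hom
  commutes' a := by
    show ((powHom w n).left.appTop ≫ (faceMor w τ).left.appTop).hom a = (powHom w m).left.appTop.hom a
    rw [← Scheme.Hom.comp_appTop, ← Over.comp_left, faceMor_hom]

theorem faceAlg_comp {l : ℕ} (τ' : Fin (m + 1) → Fin (l + 1)) :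
    (faceAlg w τ').comp (faceAlg w τ) = faceAlg w (τ' ∘ τ) := by
  refine AlgHom.ext fun x => ?_
  show ((faceMor w τ).left.appTop ≫ (faceMor w τ').left.appTop).hom x =
    (faceMor w (τ' ∘ τ)).left.appTop.hom x
  rw [← Scheme.Hom.comp_appTop, ← Over.comp_left, faceMor_comp]

end Face

variable (T) [IsAffine T.left]

/-- The scheme of an algebra over the functions of an affine object. -/
def base (L : Type u) [CommRing L] [Algebra Γ(T.left, ⊤) L] : Spec (CommRingCat.of L) ⟶ T.left :=
  Spec.map (CommRingCat.ofHom (algebraMap Γ(T.left, ⊤) L)) ≫ T.left.isoSpec.inv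

/-- The object of the big site of an algebra. -/
abbrev obj (L : Type u) [CommRing L] [Algebra Γ(T.left, ⊤) L] : Over S := Over.mk (base T L ≫ T.hom)

/-- Its morphism to the base. -/
def objHom (L : Type u) [CommRing L] [Algebra Γ(T.left, ⊤) L] : obj T L ⟶ T :=
  Over.homMk (base T L) rfl

variable {T} {L L' : Type u} [CommRing L] [Algebra Γ(T.left, ⊤) L] [CommRing L']
  [Algebra Γ(T.left, ⊤) L']

/-- A morphism of algebras gives a morphism of objects. -/
def objMap (ψ : L →ₐ[Γ(T.left, ⊤)] L') : obj T L' ⟶ obj T L :=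
  Over.homMk (Spec.map (CommRingCat.ofHom ψ.toRingHom)) (by
    show Spec.map _ ≫ (Spec.map _ ≫ T.left.isoSpec.inv) ≫ T.hom =
      (Spec.map _ ≫ T.left.isoSpec.inv) ≫ T.hom
    rw [← Category.assoc, ← Category.assoc, ← Spec.map_comp]
    exact congrArg (fun r => (Spec.map r ≫ T.left.isoSpec.inv) ≫ T.hom)
      (CommRingCat.hom_ext ψ.comp_algebraMap))

theorem objMap_hom (ψ : L →ₐ[Γ(T.left, ⊤)] L') : objMap ψ ≫ objHom T L = objHom T L' := by
  refine Over.OverMorphism.ext ?_
  show Spec.map _ ≫ Spec.map _ ≫ T.left.isoSpec.inv = Spec.map _ ≫ T.left.isoSpec.inv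
  rw [← Category.assoc, ← Spec.map_comp]
  exact congrArg (fun r => Spec.map r ≫ T.left.isoSpec.inv) (CommRingCat.hom_ext ψ.comp_algebraMap)

/-- The ring map of a morphism out of the object of an algebra. -/
def ringOf {X : Over S} (p : obj T L ⟶ X) : Γ(X.left, ⊤) →+* L :=
  (Scheme.ΓSpecIso (CommRingCat.of L)).hom.hom.comp p.left.appTop.hom

theorem ringOf_comp {X X' : Over S} (p : obj T L ⟶ X) (q : X ⟶ X') :
    ringOf (p ≫ q) = (ringOf p).comp q.left.appTop.hom := by
  refine RingHom.ext fun x => ?_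
  show (Scheme.ΓSpecIso (CommRingCat.of L)).hom.hom ((p ≫ q).left.appTop.hom x) = _
  rw [Over.comp_left, Scheme.Hom.comp_appTop]
  rfl

theorem ringOf_objMap {X : Over S} (ψ : L →ₐ[Γ(T.left, ⊤)] L') (p : obj T L ⟶ X) :
    ringOf (objMap ψ ≫ p) = ψ.toRingHom.comp (ringOf p) := by
  refine RingHom.ext fun x => ?_
  show (Scheme.ΓSpecIso (CommRingCat.of L')).hom.hom ((objMap ψ ≫ p).left.appTop.hom x) = _
  rw [Over.comp_left, Scheme.Hom.comp_appTop]
  show ((Spec.map (CommRingCat.ofHom ψ.toRingHom)).appTop ≫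
    (Scheme.ΓSpecIso (CommRingCat.of L')).hom).hom (p.left.appTop.hom x) = _
  rw [Scheme.ΓSpecIso_naturality]
  rfl

theorem ringOf_objHom : ringOf (objHom T L) = algebraMap Γ(T.left, ⊤) L := by
  have h : (Scheme.toSpecΓ T.left).appTop ≫ T.left.isoSpec.inv.appTop ≫ 𝟙 _ =
      (Scheme.toSpecΓ T.left).appTop ≫ T.left.isoSpec.inv.appTop := by rw [Category.comp_id]
  have hinv : T.left.isoSpec.inv.appTop = (Scheme.ΓSpecIso Γ(T.left, ⊤)).inv := by
    have h1 : T.left.isoSpec.inv.appTop ≫ T.left.isoSpec.hom.appTop = 𝟙 _ := by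
      rw [← Scheme.Hom.comp_appTop, Iso.hom_inv_id]
      rfl
    rw [show T.left.isoSpec.hom.appTop = (Scheme.ΓSpecIso Γ(T.left, ⊤)).hom from
      Scheme.toSpecΓ_appTop _] at h1
    rw [← cancel_mono (Scheme.ΓSpecIso Γ(T.left, ⊤)).hom, h1, Iso.inv_hom_id]
  refine RingHom.ext fun x => ?_
  show (((base T L).appTop) ≫ (Scheme.ΓSpecIso (CommRingCat.of L)).hom).hom x = _
  rw [base, Scheme.Hom.comp_appTop, Category.assoc, Scheme.ΓSpecIso_naturality, hinv]
  erw [Iso.inv_hom_id_assoc]
  rfl

/-- Morphisms to an affine object are determined by their ring maps. -/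
theorem hom_ext_ringOf {X : Over S} [IsAffine X.left] {p q : obj T L ⟶ X} (h : ringOf p = ringOf q) :
    p = q :=
  Over.OverMorphism.ext (ext_of_isAffine (by
    rw [← cancel_mono (Scheme.ΓSpecIso (CommRingCat.of L)).hom]
    exact CommRingCat.hom_ext h))

variable {w}

/-- The algebra map of a point of a fibre power. -/
def algOf {n : ℕ} (p : obj T L ⟶ pow w n) (hp : p ≫ powHom w n = objHom T L) :
    Γ((pow w n).left, ⊤) →ₐ[Γ(T.left, ⊤)] L where
  toRingHom := ringOf p
  commutes' a := by
    show ((ringOf p).comp (powHom w n).left.appTop.hom) a = _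
    rw [← ringOf_comp, hp, ringOf_objHom]

theorem algOf_apply {n : ℕ} (p : obj T L ⟶ pow w n) (hp : p ≫ powHom w n = objHom T L) (x) :
    algOf p hp x = ringOf p x := rfl

section Finite

variable [hw : IsFFCover w] (n : ℕ)

include hw

theorem isAffine_pow : IsAffine (pow w n).left :=
  haveI : IsFinite (powHom w n).left := isFinite_powHom w hw.finite n
  isAffine_of_isAffineHom (powHom w n).left

theorem moduleFlat_pow : Module.Flat Γ(T.left, ⊤) Γ((pow w n).left, ⊤) :=
  haveI := isAffine_pow (w := w) n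
  haveI : Flat (powHom w n).left := prop_powHom w @Flat hw.flat n
  Scheme.Hom.flat_appTop (powHom w n).left

theorem moduleFP_pow : Module.FinitePresentation Γ(T.left, ⊤) Γ((pow w n).left, ⊤) :=
  haveI := isAffine_pow (w := w) n
  haveI : LocallyOfFinitePresentation (powHom w n).left :=
    prop_powHom w @LocallyOfFinitePresentation hw.lfp n
  haveI : IsFinite (powHom w n).left := isFinite_powHom w hw.finite n
  haveI : Algebra.FinitePresentation Γ(T.left, ⊤) Γ((pow w n).left, ⊤) :=
    Scheme.Hom.finitePresentation_appTop (powHom w n).left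
  haveI : Module.Finite Γ(T.left, ⊤) Γ((pow w n).left, ⊤) :=
    Scheme.Hom.finite_appTop (powHom w n).left
  Module.FinitePresentation.of_finite_of_finitePresentation _ _

/-- The point of a fibre power with given ring map. -/
theorem exists_point (φ : Γ((pow w n).left, ⊤) →ₐ[Γ(T.left, ⊤)] L) :
    ∃ p : obj T L ⟶ pow w n, p ≫ powHom w n = objHom T L ∧ ringOf p = φ.toRingHom := by
  haveI := isAffine_pow (w := w) n
  let p₀ : Spec (CommRingCat.of L) ⟶ (pow w n).left :=
    Spec.map (CommRingCat.ofHom φ.toRingHom) ≫ (pow w n).left.isoSpec.inv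
  have h1 : p₀ ≫ (powHom w n).left = base T L := by
    rw [Category.assoc, ← Scheme.isoSpec_inv_naturality, ← Category.assoc, ← Spec.map_comp]
    refine congrArg (fun q => Spec.map q ≫ T.left.isoSpec.inv) (CommRingCat.hom_ext ?_)
    exact φ.comp_algebraMap
  let p : obj T L ⟶ pow w n := Over.homMk p₀ (by
    show p₀ ≫ (pow w n).hom = base T L ≫ T.hom
    refine (congrArg (p₀ ≫ ·) (Over.w (powHom w n)).symm).trans ?_
    rw [← Category.assoc, h1])
  refine ⟨p, Over.OverMorphism.ext h1, ?_⟩
  have h2 : (pow w n).left.isoSpec.inv.appTop ≫ (pow w n).left.toSpecΓ.appTop ≫ 𝟙 _ = 𝟙 _ := by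
    rw [Category.comp_id, ← Scheme.Hom.comp_appTop, Scheme.toSpecΓ_isoSpec_inv]
    rfl
  rw [Category.comp_id, Scheme.toSpecΓ_appTop] at h2
  refine RingHom.ext fun x => ?_
  show (p₀.appTop ≫ (Scheme.ΓSpecIso (CommRingCat.of L)).hom).hom x = _
  rw [Scheme.Hom.comp_appTop, Category.assoc, Scheme.ΓSpecIso_naturality, ← Category.assoc]
  erw [h2]
  rfl

end Finite

/-- A point of the cover over an algebra gives a contracting homotopy of the functions on its powers. -/
theorem exists_homotopy [IsFFCover w] (K : Type u) [CommRing K] [Algebra Γ(T.left, ⊤) K]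
    (s : obj T K ⟶ V) (hs : s ≫ w = objHom T K) (n : ℕ) :
    ∃ (h : K ⊗[Γ(T.left, ⊤)] Γ((pow w (n + 1)).left, ⊤) →ₐ[K] K ⊗[Γ(T.left, ⊤)] Γ((pow w n).left, ⊤))
      (h' : K ⊗[Γ(T.left, ⊤)] Γ((pow w (n + 2)).left, ⊤) →ₐ[K]
        K ⊗[Γ(T.left, ⊤)] Γ((pow w (n + 1)).left, ⊤)),
      (∀ y, h' (bcA K (faceAlg w (0 : Fin (n + 3)).succAbove) y) = y) ∧
      ∀ (i : Fin (n + 2)) y, h' (bcA K (faceAlg w (Fin.succ i).succAbove) y) =
        bcA K (faceAlg w i.succAbove) (h y) := by
  let A := Γ(T.left, ⊤)
  let I : ∀ m, Γ((pow w m).left, ⊤) →ₐ[A] K ⊗[A] Γ((pow w m).left, ⊤) :=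
    fun m => Algebra.TensorProduct.includeRight
  choose q hq hqr using fun m => exists_point (w := w) m (I m)
  let v : ∀ m, obj T (K ⊗[A] Γ((pow w m).left, ⊤)) ⟶ V := fun m =>
    objMap (Algebra.TensorProduct.includeLeft : K →ₐ[A] K ⊗[A] Γ((pow w m).left, ⊤)) ≫ s
  have hv : ∀ m, v m ≫ w = objHom T _ := fun m => by rw [Category.assoc, hs, objMap_hom]
  let tp : ∀ m, Tp w (obj T (K ⊗[A] Γ((pow w m).left, ⊤))) m := fun m =>
    CechPre.tupMap (fam w) (q m) (powTup w m)
  have htp : ∀ m k, (tp m).pt k ≫ w = objHom T _ := fun m k =>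
    (Category.assoc _ _ _).trans ((congrArg (q m ≫ ·) (CechPre.π_hom (fam w) _ k)).trans (hq m))
  let cn : ∀ m, obj T (K ⊗[A] Γ((pow w m).left, ⊤)) ⟶ pow w (m + 1) := fun m =>
    toPow (consTp (v m) (tp m) ((hv m).trans (htp m 0).symm))
  have hcn : ∀ m, cn m ≫ powHom w (m + 1) = objHom T _ := fun m => by
    rw [toPow_hom]
    exact hv m
  have hqtp : ∀ m, toPow (tp m) = q m := fun m => CechPre.hom_ext (fam w) fun k =>
    CechPre.toObj_π (fam w) (tp m) k
  let H : ∀ m, K ⊗[A] Γ((pow w (m + 1)).left, ⊤) →ₐ[K] K ⊗[A] Γ((pow w m).left, ⊤) := fun m =>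
    Algebra.TensorProduct.lift (Algebra.ofId K _) (algOf (cn m) (hcn m)) fun _ _ => Commute.all _ _
  refine ⟨H n, H (n + 1), fun y => ?_, fun i y => ?_⟩
  · suffices e : (H (n + 1)).comp (bcA K (faceAlg w (0 : Fin (n + 3)).succAbove)) = AlgHom.id K _ from
      congrArg (fun f => f y) e
    refine Algebra.TensorProduct.ext (AlgHom.ext fun a => ?_) (AlgHom.ext fun d => ?_)
    · simp [H]
      try exact ((Algebra.TensorProduct.map_tmul _ _ _ _).trans (by simp)).symm
    · simp only [H, AlgHom.comp_apply, AlgHom.coe_restrictScalars', Algebra.TensorProduct.includeRight_apply,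
        Algebra.TensorProduct.map_tmul, AlgHom.id_apply, Algebra.TensorProduct.lift_tmul, map_one, one_mul,
        algOf_apply]
      show ((ringOf (cn (n + 1))).comp (faceMor w _).left.appTop.hom) d = _
      rw [← ringOf_comp, show cn (n + 1) ≫ faceMor w (0 : Fin (n + 3)).succAbove = q (n + 1) by
        rw [toPow_faceMor w _ _ (tp (n + 1)) fun k => ?_, hqtp]
        simp [consTp, mkTp, Tp.pt], hqr]
      rfl
  · suffices e : (H (n + 1)).comp (bcA K (faceAlg w (Fin.succ i).succAbove)) =
        (bcA K (faceAlg w i.succAbove)).comp (H n) from congrArg (fun f => f y) e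
    refine Algebra.TensorProduct.ext (AlgHom.ext fun a => ?_) (AlgHom.ext fun d => ?_)
    · simp [H]
      try exact ((Algebra.TensorProduct.map_tmul _ _ _ _).trans (by simp)).symm
    · simp only [H, AlgHom.comp_apply, AlgHom.coe_restrictScalars', Algebra.TensorProduct.includeRight_apply,
        Algebra.TensorProduct.map_tmul, AlgHom.id_apply, Algebra.TensorProduct.lift_tmul, map_one, one_mul,
        algOf_apply]
      show ((ringOf (cn (n + 1))).comp (faceMor w _).left.appTop.hom) d =
        ((bcA K (faceAlg w i.succAbove)).restrictScalars A).toRingHom.comp (ringOf (cn n)) d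
      rw [← ringOf_comp, ← ringOf_objMap]
      refine congrArg (fun p => ringOf p d) ?_
      let M := (bcA K (faceAlg w i.succAbove)).restrictScalars A
      have hq' : objMap M ≫ q n = q (n + 1) ≫ faceMor w i.succAbove := by
        haveI := isAffine_pow (w := w) n
        refine hom_ext_ringOf ?_
        rw [ringOf_objMap, hqr, ringOf_comp, hqr]
        refine RingHom.ext fun x => ?_
        simp [M, I, faceAlg]
        try exact (Algebra.TensorProduct.map_tmul _ _ _ _).trans (by simp [A]; try rfl)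
      have hv' : objMap M ≫ v n = v (n + 1) := by
        rw [← Category.assoc]
        refine congrArg (· ≫ s) (Over.OverMorphism.ext ?_)
        show Spec.map _ ≫ Spec.map _ = Spec.map _
        rw [← Spec.map_comp]
        refine congrArg Spec.map (CommRingCat.hom_ext (RingHom.ext fun x => ?_))
        simp [M]
        try exact (Algebra.TensorProduct.map_tmul _ _ _ _).trans (by simp [A]; try rfl)
      refine CechPre.hom_ext (fam w) fun k => ?_
      refine (Category.assoc _ _ _).trans ((congrArg (_ ≫ ·) (faceMor_pt w _ k)).trans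
        ((CechPre.toObj_π (fam w) _ _).trans ?_))
      refine Eq.trans ?_ (Category.assoc _ _ _).symm
      refine Eq.trans ?_ (congrArg (objMap M ≫ ·) (CechPre.toObj_π (fam w) _ k)).symm
      induction k using Fin.cases with
      | zero =>
        rw [Fin.succ_succAbove_zero]
        exact hv'.symm
      | succ j =>
        rw [Fin.succ_succAbove_succ]
        show q (n + 1) ≫ (powTup w (n + 1)).pt (i.succAbove j) = objMap M ≫ q n ≫ (powTup w n).pt j
        rw [← faceMor_pt w i.succAbove j, ← Category.assoc, ← hq', Category.assoc]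

end Groth.Agent.GmFppf
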