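import Groth.Agent.GmFppf.Free
import Groth.Agent.GmFppf.Powers
import Groth.Agent.S0412
import Groth.Prelude.Def_EtDlF

/-!
# The multiplicative group is acyclic for finite flat covers, étale locally
-/

set_option autoImplicit false
set_option linter.style.haveILetI false
set_option backward.isDefEq.respectTransparency.types false

universe u

open CategoryTheory CategoryTheory.Limits AlgebraicGeometry Opposite TensorProduct

noncomputable section

namespace Groth.Agent.GmFppf

open Groth.Agent.EtaleSite Groth.Agent.EtFppfCmp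

variable {S : Scheme.{u}}

section Units

variable {W W' : Over S}

/-- The unit of a section of `G_m`. -/
def uo (x : (EtDl.GmF S).obj.obj (op W)) : Γ(W.left, ⊤)ˣ := Additive.toMul x.down

/-- The section of a unit. -/
def mkU (u : Γ(W.left, ⊤)ˣ) : (EtDl.GmF S).obj.obj (op W) := ULift.up (Additive.ofMul u)

theorem uo_mkU (u : Γ(W.left, ⊤)ˣ) : uo (mkU u) = u := rfl

theorem uo_injective : Function.Injective (uo (S := S) (W := W)) := fun _ _ h => ULift.ext _ _ h

theorem uo_map (g : W' ⟶ W) (x : (EtDl.GmF S).obj.obj (op W)) :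
    uo ((EtDl.GmF S).obj.map g.op x) = Units.map g.left.appTop.hom.toMonoidHom (uo x) := rfl

theorem uo_add (x y : (EtDl.GmF S).obj.obj (op W)) : uo (x + y) = uo x * uo y := rfl

theorem uo_zero : uo (0 : (EtDl.GmF S).obj.obj (op W)) = 1 := rfl

/-- `uo` as a homomorphism. -/
def uoHom : (EtDl.GmF S).obj.obj (op W) →+ Additive (Γ(W.left, ⊤)ˣ) :=
  AddMonoidHom.mk' (fun x => Additive.ofMul (uo x)) fun _ _ => rfl

end Units

theorem alt_sum {M : Type*} [AddCommGroup M] {m : ℕ} (y : Fin m → M) :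
    ∑ k : Fin m, (-1 : ℤ) ^ (k : ℕ) • y k = (∑ k ∈ evens m, y k) - ∑ k ∈ odds m, y k := by
  rw [evens, odds, ← Finset.sum_filter_add_sum_filter_not Finset.univ (fun k : Fin m => Even k.val),
    sub_eq_add_neg, ← Finset.sum_neg_distrib]
  refine congrArg₂ (· + ·) (Finset.sum_congr rfl fun k hk => ?_) (Finset.sum_congr rfl fun k hk => ?_)
  · rw [(Finset.mem_filter.1 hk).2.neg_one_pow, one_smul]
  · rw [(Nat.not_even_iff_odd.1 (Finset.mem_filter.1 hk).2).neg_one_pow, neg_smul, one_smul]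

/-- An alternating sum of sections, in units. -/
theorem val_uo_alt {W : Over S} {m : ℕ} (y : Fin m → (EtDl.GmF S).obj.obj (op W)) :
    (uo (∑ k : Fin m, (-1 : ℤ) ^ (k : ℕ) • y k)).val * ∏ k ∈ odds m, (uo (y k)).val =
      ∏ k ∈ evens m, (uo (y k)).val := by
  rw [← Units.coe_prod, ← Units.coe_prod, ← Units.val_mul]
  refine congrArg Units.val (Additive.ofMul.injective ?_)
  rw [ofMul_mul, ofMul_prod, ofMul_prod]
  show uoHom (∑ k : Fin m, (-1 : ℤ) ^ (k : ℕ) • y k) + ∑ k ∈ odds m, uoHom (y k) =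
    ∑ k ∈ evens m, uoHom (y k)
  rw [alt_sum, map_sub, map_sum, map_sum, sub_add_cancel]

section Theta

variable {V T : Over S} {w : V ⟶ T} [IsAffine T.left] {R : Type u} [CommRing R]
  [Algebra Γ(T.left, ⊤) R] {W : Over S} (r : W ⟶ obj T R) {m : ℕ} (p : W ⟶ pow w m)
  (h : p ≫ powHom w m = r ≫ objHom T R)

/-- Functions on a scheme mapping to `Spec R` and to a fibre power. -/
def theta : R ⊗[Γ(T.left, ⊤)] Γ((pow w m).left, ⊤) →+* Γ(W.left, ⊤) :=
  letI : Algebra Γ(T.left, ⊤) Γ(W.left, ⊤) := (r ≫ objHom T R).left.appTop.hom.toAlgebra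
  (Algebra.TensorProduct.lift
    ({ toRingHom := r.left.appTop.hom.comp (Scheme.ΓSpecIso (CommRingCat.of R)).inv.hom
       commutes' := fun a => by
        show r.left.appTop.hom ((Scheme.ΓSpecIso (CommRingCat.of R)).inv.hom (algebraMap _ R a)) =
          (r ≫ objHom T R).left.appTop.hom a
        rw [← ringOf_objHom, Over.comp_left, Scheme.Hom.comp_appTop]
        refine congrArg r.left.appTop.hom ?_
        show ((Scheme.ΓSpecIso (CommRingCat.of R)).hom ≫ (Scheme.ΓSpecIso (CommRingCat.of R)).inv).hom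
          ((objHom T R).left.appTop.hom a) = _
        rw [Iso.hom_inv_id]
        rfl } : R →ₐ[Γ(T.left, ⊤)] Γ(W.left, ⊤))
    ({ toRingHom := p.left.appTop.hom
       commutes' := fun a => by
        show ((powHom w m).left.appTop ≫ p.left.appTop).hom a = (r ≫ objHom T R).left.appTop.hom a
        rw [← Scheme.Hom.comp_appTop, ← Over.comp_left, h] } :
      Γ((pow w m).left, ⊤) →ₐ[Γ(T.left, ⊤)] Γ(W.left, ⊤))
    fun _ _ => Commute.all _ _).toRingHom

theorem theta_tmul (a : R) (c : Γ((pow w m).left, ⊤)) :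
    theta r p h (a ⊗ₜ c) =
      r.left.appTop.hom ((Scheme.ΓSpecIso (CommRingCat.of R)).inv.hom a) * p.left.appTop.hom c := by
  letI : Algebra Γ(T.left, ⊤) Γ(W.left, ⊤) := (r ≫ objHom T R).left.appTop.hom.toAlgebra
  exact Algebra.TensorProduct.lift_tmul _ _ _ a c

theorem theta_one_tmul (c : Γ((pow w m).left, ⊤)) : theta r p h (1 ⊗ₜ c) = p.left.appTop.hom c := by
  rw [theta_tmul, map_one, map_one, one_mul]

theorem theta_map {W' : Over S} (g : W' ⟶ W) (r' : W' ⟶ obj T R) (p' : W' ⟶ pow w m) (h' : p' ≫ powHom w m = r' ≫ objHom T R)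
    (hr : r' = g ≫ r) (hp : p' = g ≫ p) (z) :
    g.left.appTop.hom (theta r p h z) = theta r' p' h' z := by
  subst hr hp
  induction z using TensorProduct.induction_on with
  | zero => simp
  | tmul a c =>
    rw [theta_tmul, theta_tmul, map_mul]
    simp [Scheme.Hom.comp_appTop]
  | add x y hx hy => simp only [map_add, hx, hy]

theorem theta_face {k : ℕ} (τ : Fin (k + 1) → Fin (m + 1)) (p' : W ⟶ pow w k)
    (h' : p' ≫ powHom w k = r ≫ objHom T R) (hp : p ≫ faceMor w τ = p') (z) :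
    theta r p h (bcA R (faceAlg w τ) z) = theta r p' h' z := by
  subst hp
  induction z using TensorProduct.induction_on with
  | zero => simp
  | tmul a c =>
    rw [Algebra.TensorProduct.map_tmul, AlgHom.id_apply, theta_tmul, theta_tmul]
    simp [Scheme.Hom.comp_appTop]
    rfl
  | add x y hx hy => simp only [map_add, hx, hy]

end Theta

theorem bcA_bcA {A : Type u} [CommRing A] {C D E : Type u} [CommRing C] [Algebra A C] [CommRing D]
    [Algebra A D] [CommRing E] [Algebra A E] (R : Type u) [CommRing R] [Algebra A R]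
    (f : D →ₐ[A] E) (g : C →ₐ[A] D) (z : R ⊗[A] C) :
    bcA R f (bcA R g z) = bcA R (f.comp g) z := by
  induction z using TensorProduct.induction_on with
  | zero => simp
  | tmul x y => simp
  | add x y hx hy => simp only [map_add, hx, hy]

theorem dd_faces {V T : Over S} (w : V ⟶ T) (n : ℕ) (R : Type u) [CommRing R]
    [Algebra Γ(T.left, ⊤) R] (x : R ⊗[Γ(T.left, ⊤)] Γ((pow w n).left, ⊤)) (hx : IsUnit x) :
    let δ := fun j : Fin (n + 2) => faceAlg w j.succAbove
    let δ' := fun k : Fin (n + 3) => faceAlg w k.succAbove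
    evP δ' R (evP δ R x) * odP δ' R (odP δ R x) = odP δ' R (evP δ R x) * evP δ' R (odP δ R x) := by
  intro δ δ'
  let M := Additive (R ⊗[Γ(T.left, ⊤)] Γ((pow w (n + 2)).left, ⊤))ˣ
  let g : (Fin (n + 1) → Fin (n + 3)) → M := fun τ =>
    Additive.ofMul (Units.map (bcA R (faceAlg w τ)).toMonoidHom hx.unit)
  have h0 := dF_dF g (id : Fin (n + 3) → Fin (n + 3))
  simp only [dF, Function.id_comp, alt_sum, Finset.sum_sub_distrib] at h0
  have h1 : (∑ k ∈ evens (n + 3), ∑ j ∈ evens (n + 2), g (k.succAbove ∘ j.succAbove)) +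
      ∑ k ∈ odds (n + 3), ∑ j ∈ odds (n + 2), g (k.succAbove ∘ j.succAbove) =
      (∑ k ∈ odds (n + 3), ∑ j ∈ evens (n + 2), g (k.succAbove ∘ j.succAbove)) +
      ∑ k ∈ evens (n + 3), ∑ j ∈ odds (n + 2), g (k.succAbove ∘ j.succAbove) := by
    rw [← sub_eq_zero, ← h0]
    abel
  let ψ : M →+ Additive (R ⊗[Γ(T.left, ⊤)] Γ((pow w (n + 2)).left, ⊤)) :=
    (Units.coeHom _).toAdditive
  have h2 := congrArg ψ h1
  simp only [map_add, map_sum] at h2
  have e : ∀ (s : Finset (Fin (n + 3))) (s' : Finset (Fin (n + 2))),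
      ∏ k ∈ s, bcA R (δ' k) (∏ j ∈ s', bcA R (δ j) x) =
        ∏ k ∈ s, ∏ j ∈ s', bcA R (faceAlg w (k.succAbove ∘ j.succAbove)) x := fun s s' =>
    Finset.prod_congr rfl fun k _ => (map_prod (bcA R (δ' k)) _ s').trans
      (Finset.prod_congr rfl fun j _ => (bcA_bcA R (δ' k) (δ j) x).trans
        (congrArg (fun f => bcA R f x) (faceAlg_comp w j.succAbove k.succAbove)))
  show (∏ k ∈ evens (n + 3), bcA R (δ' k) (∏ j ∈ evens (n + 2), bcA R (δ j) x)) *
      (∏ k ∈ odds (n + 3), bcA R (δ' k) (∏ j ∈ odds (n + 2), bcA R (δ j) x)) =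
    (∏ k ∈ odds (n + 3), bcA R (δ' k) (∏ j ∈ evens (n + 2), bcA R (δ j) x)) *
      (∏ k ∈ evens (n + 3), bcA R (δ' k) (∏ j ∈ odds (n + 2), bcA R (δ j) x))
  rw [e, e, e, e]
  apply Additive.ofMul.injective
  simp only [ofMul_mul, ofMul_prod]
  exact h2

set_option maxHeartbeats 800000 in
theorem acyc_GmF_affine {V T : Over S} (w : V ⟶ T) [hw : IsFFCover w] [IsAffine T.left] (n : ℕ)
    (c : Co w (EtDl.GmF S).obj (n + 1)) (hc : dC w c = 0) (v : T.left) :
    ∃ (T' : Over S) (g : T' ⟶ T) (t' : T'.left), Etale g.left ∧ g.left t' = v ∧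
      ∃ (V' : Over S) (w' : V' ⟶ T') (q : V' ⟶ V) (e : w' ≫ g = q ≫ w) (_ : IsFFCover w'),
        ∃ b : Co w' (EtDl.GmF S).obj n, dC w' b = res e c := by
  haveI := moduleFlat_pow (w := w) n
  haveI := moduleFlat_pow (w := w) (n + 1)
  haveI := moduleFlat_pow (w := w) (n + 2)
  haveI := moduleFP_pow (w := w) n
  haveI := moduleFP_pow (w := w) (n + 1)
  haveI := moduleFP_pow (w := w) (n + 2)
  -- the cocycle
  let c₀ := ev c (powTup w (n + 1))
  let cr : Γ((pow w (n + 1)).left, ⊤) := (uo c₀).val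
  have hev : ∀ k : Fin (n + 3), ev c (CechPre.tupFace (fam w) k (powTup w (n + 2))) =
      (EtDl.GmF S).obj.map (faceMor w k.succAbove).op c₀ := fun k => by
    rw [← map_toPow c (CechPre.tupFace (fam w) k (powTup w (n + 2)))]
    rfl
  have hcc : ∏ k ∈ evens (n + 3), faceAlg w k.succAbove cr =
      ∏ k ∈ odds (n + 3), faceAlg w k.succAbove cr := by
    have h := val_uo_alt (fun k : Fin (n + 3) => (EtDl.GmF S).obj.map (faceMor w k.succAbove).op c₀)
    rw [← show ev (dC w c) (powTup w (n + 2)) = _ from (ev_dC c _).trans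
      (Finset.sum_congr rfl fun k _ => congrArg _ (hev k)), hc, ev_zero, uo_zero, Units.val_one,
      one_mul] at h
    exact h.symm
  -- a point of the cover above `v`
  haveI := hw.surj
  obtain ⟨v', hv'⟩ := w.left.surjective v
  let K := V.left.residueField v'
  let ρ : Spec (CommRingCat.of K) ⟶ V.left := V.left.fromSpecResidueField v'
  letI : Algebra Γ(T.left, ⊤) K :=
    ((ρ ≫ w.left).appTop ≫ (Scheme.ΓSpecIso (CommRingCat.of K)).hom).hom.toAlgebra
  have hb : base T K = ρ ≫ w.left := by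
    refine ext_of_isAffine ?_
    rw [← cancel_mono (Scheme.ΓSpecIso (CommRingCat.of K)).hom]
    exact CommRingCat.hom_ext (ringOf_objHom (T := T) (L := K))
  let s : obj T K ⟶ V := Over.homMk ρ (by
    show ρ ≫ V.hom = base T K ≫ T.hom
    rw [hb, Category.assoc, Over.w w])
  have hs : s ≫ w = objHom T K := Over.OverMorphism.ext hb.symm
  obtain ⟨h, h', h0, hsucc⟩ := exists_homotopy (w := w) K s hs n
  obtain ⟨R, _, _, hsm, ⟨φ⟩, x, hx, hxe⟩ := exists_smooth_solution'
    (fun j : Fin (n + 2) => faceAlg w j.succAbove) (fun k : Fin (n + 3) => faceAlg w k.succAbove)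
    (fun R _ _ x hx => dd_faces w n R x hx) K h h' h0 hsucc cr (uo c₀).isUnit hcc
  -- an étale neighbourhood
  haveI : Smooth (base T R) := by
    haveI : Smooth (Spec.map (CommRingCat.ofHom (algebraMap Γ(T.left, ⊤) R))) :=
      (HasRingHomProperty.Spec_iff (P := @Smooth)).2 (RingHom.smooth_algebraMap.2 hsm)
    rw [base]
    infer_instance
  have hrange : v ∈ Set.range (base T R) := by
    refine ⟨(objMap φ).left (default : Spec (CommRingCat.of K)), ?_⟩
    rw [← Scheme.Hom.comp_apply]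
    show ((objMap φ ≫ objHom T R).left) (default : Spec (CommRingCat.of K)) = v
    rw [objMap_hom]
    show base T K _ = v
    rw [hb, Scheme.Hom.comp_apply, show ρ _ = v' from Scheme.fromSpecResidueField_apply v' _, hv']
  obtain ⟨T₀, g₀, t', hg₀, ht', l, hl⟩ := Groth.Agent.S0412.result (base T R) v hrange
  let T' : Over S := Over.mk (g₀ ≫ T.hom)
  let g : T' ⟶ T := Over.homMk g₀ rfl
  let lm : T' ⟶ obj T R := Over.homMk l (by
    show l ≫ base T R ≫ T.hom = g₀ ≫ T.hom
    rw [← Category.assoc, hl])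
  have hlm : lm ≫ objHom T R = g := Over.OverMorphism.ext hl
  let w' := bcHom g w
  let e : w' ≫ g = bcSnd g w ≫ w := bc_condition g w
  have hcomp : ∀ {W : Over S} {m : ℕ} (t : Tp w' W m),
      toPow (resTp e t) ≫ powHom w m = (t.pt 0 ≫ w' ≫ lm) ≫ objHom T R := fun {W} {m} t => by
    rw [toPow_hom, Category.assoc, Category.assoc, hlm, e, ← Category.assoc]
    rfl
  let b : Co w' (EtDl.GmF S).obj n :=
    CechPre.lift (fam w') (EtDl.GmF S).obj
      (fun W t => mkU (Units.map
        (theta (Tp.pt (W := W.unop) t 0 ≫ w' ≫ lm) (toPow (resTp e t)) (hcomp t)).toMonoidHom hx.unit))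
      (fun W W' i t => by
        refine uo_injective ?_
        refine Eq.trans ?_ (uo_map i.unop _).symm
        rw [uo_mkU, uo_mkU]
        refine Units.ext ?_
        show theta _ _ _ x = i.unop.left.appTop.hom (theta _ _ _ x)
        refine (theta_map _ _ _ i.unop _ _ _ ?_ ?_ _).symm
        · exact Category.assoc _ _ _
        · exact (congrArg toPow (Tp.ext' fun k => Category.assoc _ _ _)).trans
            (CechPre.toObj_map (fam w) i.unop (resTp e t)))
  refine ⟨T', g, t', hg₀, ht', bcObj g w, w', bcSnd g w, e, inferInstance, b,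
    co_ext fun W t => ?_⟩
  refine uo_injective (Units.ext ?_)
  let r := t.pt 0 ≫ w' ≫ lm
  let p := toPow (resTp e t)
  let τ := theta r p (hcomp t)
  have hface : ∀ k : Fin (n + 2), (uo (ev b (CechPre.tupFace (fam w') k t))).val =
      τ (bcA R (faceAlg w k.succAbove) x) := fun k => by
    rw [show ev b (CechPre.tupFace (fam w') k t) = _ from CechPre.lift_gen (fam w') _ _ _ (op W) _,
      uo_mkU]
    show theta _ _ _ x = _
    have hr : (CechPre.tupFace (fam w') k t).1 0 = t.1 (k.succAbove 0) := rfl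
    have hr' : Tp.pt (CechPre.tupFace (fam w') k t) 0 ≫ w' ≫ lm = r := by
      show _ = t.pt 0 ≫ w' ≫ lm
      rw [← Category.assoc, ← Category.assoc]
      exact congrArg (· ≫ lm) (t.2 _)
    let p' := toPow (resTp e (CechPre.tupFace (fam w') k t))
    have h2 : p' ≫ powHom w n = r ≫ objHom T R := by
      rw [← hr']
      exact hcomp _
    refine Eq.trans ?_ (theta_face r p (hcomp t) k.succAbove p' h2
      (toPow_faceMor w _ _ (resTp e (CechPre.tupFace (fam w') k t)) fun _ => rfl) x).symm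
    congr 1
    simp only [hr']
    rfl
  have halt := val_uo_alt (fun k : Fin (n + 2) => ev b (CechPre.tupFace (fam w') k t))
  rw [← ev_dC] at halt
  simp only [hface, ← map_prod] at halt
  rw [show ∏ k ∈ evens (n + 2), bcA R (faceAlg w k.succAbove) x = (1 ⊗ₜ cr) *
    ∏ k ∈ odds (n + 2), bcA R (faceAlg w k.succAbove) x from hxe, map_mul] at halt
  have hu : IsUnit (τ (∏ k ∈ odds (n + 2), bcA R (faceAlg w k.succAbove) x)) :=
    (hx.map (odP (fun j : Fin (n + 2) => faceAlg w j.succAbove) R)).map τ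
  rw [hu.mul_left_inj] at halt
  rw [halt, theta_one_tmul, ev_res, ← map_toPow c (resTp e t)]
  rfl

/-- `G_m` is acyclic. -/
theorem acyc_GmF : Acyc (EtDl.GmF S) := by
  intro V T w hw n c hc v
  obtain ⟨U, hU, hvU, -⟩ := exists_isAffineOpen_mem_and_subset (show v ∈ (⊤ : T.left.Opens) from trivial)
  let T₁ : Over S := Over.mk (U.ι ≫ T.hom)
  haveI : IsAffine T₁.left := hU
  let g₁ : T₁ ⟶ T := Over.homMk U.ι rfl
  have e₁ : bcHom g₁ w ≫ g₁ = bcSnd g₁ w ≫ w := bc_condition g₁ w
  haveI := hw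
  obtain ⟨T', g, t', hg, ht, V', w', q, e, hw', b, hb⟩ :=
    acyc_GmF_affine (bcHom g₁ w) n (res e₁ c) (by rw [← res_dC, hc, res_zero]) (⟨v, hvU⟩ : U.toScheme)
  have e'' : w' ≫ g ≫ g₁ = (q ≫ bcSnd g₁ w) ≫ w := by
    rw [← Category.assoc, e, Category.assoc, e₁, Category.assoc]
  refine ⟨T', g ≫ g₁, t', ?_, ?_, V', w', q ≫ bcSnd g₁ w, e'', hw', b, hb.trans (res_res e₁ e e'' c)⟩
  · rw [Over.comp_left]
    exact MorphismProperty.comp_mem @Etale _ _ hg (inferInstance : Etale U.ι)
  · rw [Over.comp_left, Scheme.Hom.comp_apply, ht]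
    rfl

end Groth.Agent.GmFppf
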