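import Groth.Agent.GmFppf.Linear

/-!
# Alternating products of algebra maps, and their linearisation
-/

set_option autoImplicit false
set_option linter.style.haveILetI false

universe u

open TensorProduct

namespace Groth.Agent.GmFppf

variable {A : Type u} [CommRing A] {C D E : Type u} [CommRing C] [Algebra A C] [CommRing D]
  [Algebra A D] [CommRing E] [Algebra A E]

section Base

variable (R : Type u) [CommRing R] [Algebra A R] {S : Type u} [CommRing S] [Algebra A S]

/-- Base change of an algebra map. -/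
noncomputable abbrev bcA (f : C →ₐ[A] D) : R ⊗[A] C →ₐ[R] R ⊗[A] D :=
  Algebra.TensorProduct.map (AlgHom.id R R) f

variable {R} (C) in
/-- Change of base ring. -/
noncomputable abbrev chg (φ : R →ₐ[A] S) : R ⊗[A] C →ₐ[A] S ⊗[A] C :=
  Algebra.TensorProduct.map φ (AlgHom.id A C)

variable {R}

theorem chg_bcA (φ : R →ₐ[A] S) (f : C →ₐ[A] D) (z : R ⊗[A] C) :
    chg D φ (bcA R f z) = bcA S f (chg C φ z) := by
  induction z using TensorProduct.induction_on with
  | zero => simp
  | tmul x y => simp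
  | add x y hx hy => simp only [map_add, hx, hy]

end Base

/-- The even indices. -/
def evens (m : ℕ) : Finset (Fin m) := Finset.univ.filter fun i => Even i.val

/-- The odd indices. -/
def odds (m : ℕ) : Finset (Fin m) := Finset.univ.filter fun i => ¬ Even i.val

variable {m : ℕ} (δ : Fin m → C →ₐ[A] D) (R : Type u) [CommRing R] [Algebra A R]

/-- The product over the even indices. -/
noncomputable def evP : R ⊗[A] C →* R ⊗[A] D where
  toFun x := ∏ i ∈ evens m, bcA R (δ i) x
  map_one' := Finset.prod_eq_one fun i _ => map_one _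
  map_mul' x y := by rw [← Finset.prod_mul_distrib]; exact Finset.prod_congr rfl fun i _ => map_mul _ x y

/-- The product over the odd indices. -/
noncomputable def odP : R ⊗[A] C →* R ⊗[A] D where
  toFun x := ∏ i ∈ odds m, bcA R (δ i) x
  map_one' := Finset.prod_eq_one fun i _ => map_one _
  map_mul' x y := by rw [← Finset.prod_mul_distrib]; exact Finset.prod_congr rfl fun i _ => map_mul _ x y

/-- The alternating sum. -/
noncomputable def dSum : R ⊗[A] C →ₗ[R] R ⊗[A] D :=
  (∑ i ∈ evens m, (bcA R (δ i)).toLinearMap) - ∑ i ∈ odds m, (bcA R (δ i)).toLinearMap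

theorem dSum_apply (x : R ⊗[A] C) :
    dSum δ R x = (∑ i ∈ evens m, bcA R (δ i) x) - ∑ i ∈ odds m, bcA R (δ i) x := by
  show ((∑ i ∈ evens m, (bcA R (δ i)).toLinearMap) - ∑ i ∈ odds m, (bcA R (δ i)).toLinearMap) x = _
  rw [LinearMap.sub_apply, LinearMap.sum_apply, LinearMap.sum_apply]
  rfl

variable {R} {S : Type u} [CommRing S] [Algebra A S]

theorem chg_evP (φ : R →ₐ[A] S) (x : R ⊗[A] C) :
    chg D φ (evP δ R x) = evP δ S (chg C φ x) := by
  show chg D φ (∏ i ∈ evens m, bcA R (δ i) x) = ∏ i ∈ evens m, bcA S (δ i) (chg C φ x)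
  rw [map_prod]
  exact Finset.prod_congr rfl fun i _ => chg_bcA φ (δ i) x

theorem chg_odP (φ : R →ₐ[A] S) (x : R ⊗[A] C) :
    chg D φ (odP δ R x) = odP δ S (chg C φ x) := by
  show chg D φ (∏ i ∈ odds m, bcA R (δ i) x) = ∏ i ∈ odds m, bcA S (δ i) (chg C φ x)
  rw [map_prod]
  exact Finset.prod_congr rfl fun i _ => chg_bcA φ (δ i) x

theorem chg_dSum (φ : R →ₐ[A] S) (x : R ⊗[A] C) :
    chg D φ (dSum δ R x) = dSum δ S (chg C φ x) := by
  rw [dSum_apply, dSum_apply, map_sub, map_sum, map_sum]
  simp only [chg_bcA]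

section Square

variable {T : Type*} [CommRing T] {ι : Type*}

theorem prod_one_add_of_mul_eq_zero (s : Finset ι) (y : ι → T) (h : ∀ i j, y i * y j = 0) :
    ∏ i ∈ s, (1 + y i) = 1 + ∑ i ∈ s, y i := by
  classical
  induction s using Finset.induction_on with
  | empty => simp
  | insert a s ha ih =>
    rw [Finset.prod_insert ha, ih, Finset.sum_insert ha, add_mul, one_mul, mul_add, mul_one,
      Finset.mul_sum, Finset.sum_eq_zero (fun j _ => h a j)]
    ring

/-- A derivation along a ring map of a product of units. -/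
theorem deriv_prod {T' : Type*} [CommRing T'] (ev : T' →+* T) (L : T' → T) (h1 : L 1 = 0)
    (hL : ∀ a b, L (a * b) = L a * ev b + ev a * L b) (s : Finset ι) (f : ι → T') (g : ι → T)
    (hfg : ∀ i ∈ s, L (f i) = ev (f i) * g i) :
    L (∏ i ∈ s, f i) = ev (∏ i ∈ s, f i) * ∑ i ∈ s, g i := by
  classical
  induction s using Finset.induction_on with
  | empty => simp [h1]
  | insert a s ha ih =>
    rw [Finset.prod_insert ha, Finset.sum_insert ha, hL, hfg a (Finset.mem_insert_self a s),
      ih (fun i hi => hfg i (Finset.mem_insert_of_mem hi)), map_mul]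
    ring

end Square

/-- Modulo the square of an ideal, a multiplicative cocycle is an additive one. -/
theorem mk_dSum_eq_zero (δ' : Fin m → C →ₐ[A] D) (J : Ideal (R ⊗[A] D)) (ε : R ⊗[A] C)
    (hε : ∀ i j, bcA R (δ' i) ε * bcA R (δ' j) ε ∈ J) (h : evP δ' R (1 + ε) = odP δ' R (1 + ε)) :
    dSum δ' R ε ∈ J := by
  have hy : ∀ i j, Ideal.Quotient.mk J (bcA R (δ' i) ε) * Ideal.Quotient.mk J (bcA R (δ' j) ε) = 0 :=
    fun i j => by rw [← map_mul]; exact Ideal.Quotient.eq_zero_iff_mem.2 (hε i j)
  have h' : Ideal.Quotient.mk J (∏ i ∈ evens m, bcA R (δ' i) (1 + ε)) =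
      Ideal.Quotient.mk J (∏ i ∈ odds m, bcA R (δ' i) (1 + ε)) := congrArg _ h
  simp only [map_prod, map_add, map_one, prod_one_add_of_mul_eq_zero _ _ hy, add_right_inj] at h'
  rw [← Ideal.Quotient.eq_zero_iff_mem, dSum_apply, map_sub, map_sum, map_sum, h', sub_self]

end Groth.Agent.GmFppf
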