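import Mathlib

/-!
# Long exact sequences of multiplication by a prime
-/

set_option autoImplicit false

universe w v u

open CategoryTheory CategoryTheory.Limits CategoryTheory.Abelian

namespace Groth.Agent.GmFppf

/-- `M` is a `p`-torsion extension of `B[p]` by `A/pA`. -/
def IsExtP (p : ℕ) (A M B : Type*) [AddCommGroup A] [AddCommGroup M] [AddCommGroup B] : Prop :=
  (∀ m : M, p • m = 0) ∧ ∃ (α : A →+ M) (β : M →+ B),
    (∀ a, α a = 0 ↔ ∃ a', p • a' = a) ∧ Function.Exact α β ∧ ∀ b, p • b = 0 ↔ b ∈ Set.range β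

variable {p : ℕ} [Fact p.Prime]

theorem exists_section_of_module {M R : Type*} [AddCommGroup M] [AddCommGroup R] [Module (ZMod p) M]
    [Module (ZMod p) R] (b : M →+ R) (hb : Function.Surjective b) :
    ∃ s : R →+ M, ∀ y, b (s y) = y := by
  obtain ⟨s, hs⟩ := Module.projective_lifting_property (b.toZModLinearMap p) LinearMap.id hb
  exact ⟨s.toAddMonoidHom, fun y => LinearMap.congr_fun hs y⟩

theorem exists_section_of_torsion {M R : Type*} [AddCommGroup M] [AddCommGroup R]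
    (hM : ∀ m : M, p • m = 0) (b : M →+ R) (hb : Function.Surjective b) :
    ∃ s : R →+ M, ∀ y, b (s y) = y := by
  have hR : ∀ y : R, p • y = 0 := fun y => by
    obtain ⟨m, rfl⟩ := hb y
    rw [← map_nsmul, hM, map_zero]
  exact @exists_section_of_module p _ M R _ _ (AddCommGroup.zmodModule hM) (AddCommGroup.zmodModule hR) b hb

theorem exists_split {A M B : Type*} [AddCommGroup A] [AddCommGroup M] [AddCommGroup B]
    (hM : ∀ m : M, p • m = 0) (α : A →+ M) (β : M →+ B) (he : Function.Exact α β) :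
    Nonempty (M ≃+ α.range × β.range) := by
  obtain ⟨s, hbs⟩ := exists_section_of_torsion hM β.rangeRestrict β.rangeRestrict_surjective
  have hk : ∀ m, m - s (β.rangeRestrict m) ∈ α.range := fun m => by
    refine (he _).1 ?_
    rw [map_sub, sub_eq_zero]
    exact congrArg Subtype.val (hbs (β.rangeRestrict m)).symm
  exact ⟨{
    toFun := fun m => (⟨m - s (β.rangeRestrict m), hk m⟩, β.rangeRestrict m)
    invFun := fun z => z.1.1 + s z.2
    left_inv := fun m => sub_add_cancel _ _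
    right_inv := fun z => by
      have h1 : β.rangeRestrict (z.1.1 + s z.2) = z.2 := by
        rw [map_add, hbs]
        refine add_eq_right.2 (Subtype.ext ?_)
        exact (he _).2 z.1.2
      refine Prod.ext (Subtype.ext ?_) h1
      show z.1.1 + s z.2 - s (β.rangeRestrict (z.1.1 + s z.2)) = z.1.1
      rw [h1, add_sub_cancel_right]
    map_add' := fun m m' => by
      refine Prod.ext (Subtype.ext ?_) (map_add _ _ _)
      show m + m' - s (β.rangeRestrict (m + m')) = _ - _ + (_ - _)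
      rw [map_add, map_add]
      abel }⟩

/-- `p`-torsion extensions with isomorphic ends are isomorphic. -/
theorem IsExtP.nonempty_addEquiv {A A' M M' B B' : Type*} [AddCommGroup A] [AddCommGroup A']
    [AddCommGroup M] [AddCommGroup M'] [AddCommGroup B] [AddCommGroup B'] (h : IsExtP p A M B)
    (h' : IsExtP p A' M' B') (eA : A ≃+ A') (eB : B ≃+ B') : Nonempty (M ≃+ M') := by
  obtain ⟨hM, α, β, hα, he, hβ⟩ := h
  obtain ⟨hM', α', β', hα', he', hβ'⟩ := h'
  let α₂ : A →+ M' := α'.comp eA.toAddMonoidHom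
  let β₂ : M' →+ B := eB.symm.toAddMonoidHom.comp β'
  have he₂ : Function.Exact α₂ β₂ := fun m => by
    show eB.symm (β' m) = 0 ↔ _
    rw [AddEquiv.map_eq_zero_iff, he' m]
    exact ⟨fun ⟨a, ha⟩ => ⟨eA.symm a, by simpa [α₂] using ha⟩, fun ⟨a, ha⟩ => ⟨eA a, ha⟩⟩
  have hker : α.ker = α₂.ker := by
    ext a
    show α a = 0 ↔ α' (eA a) = 0
    rw [hα, hα']
    exact ⟨fun ⟨x, hx⟩ => ⟨eA x, by rw [← map_nsmul, hx]⟩,
      fun ⟨x, hx⟩ => ⟨eA.symm x, eA.injective (by rw [map_nsmul, AddEquiv.apply_symm_apply, hx])⟩⟩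
  have hrange : β.range = β₂.range := by
    ext b
    show b ∈ Set.range β ↔ b ∈ Set.range (fun m => eB.symm (β' m))
    rw [← hβ]
    constructor
    · intro hb
      obtain ⟨m, hm⟩ := (hβ' (eB b)).1 (by rw [← map_nsmul, hb, map_zero])
      exact ⟨m, by simp only [hm, AddEquiv.symm_apply_apply]⟩
    · rintro ⟨m, rfl⟩
      rw [← map_nsmul, (hβ' (β' m)).2 ⟨m, rfl⟩, map_zero]
  obtain ⟨e₁⟩ := exists_split (p := p) hM α β he
  obtain ⟨e₂⟩ := exists_split (p := p) hM' α₂ β₂ he₂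
  let eR : α.range ≃+ α₂.range :=
    ((QuotientAddGroup.quotientKerEquivRange α).symm.trans
      (QuotientAddGroup.quotientAddEquivOfEq hker)).trans (QuotientAddGroup.quotientKerEquivRange α₂)
  exact ⟨(e₁.trans (eR.prodCongr (AddEquiv.addSubgroupCongr hrange))).trans e₂.symm⟩

variable {C : Type u} [Category.{v} C] [Abelian C] [HasExt.{w} C]

theorem comp_mk₀_nsmul {X Y : C} {n : ℕ} (x : Ext X Y n) (k : ℕ) :
    x.comp (Ext.mk₀ (k • 𝟙 Y)) (add_zero n) = k • x := by
  induction k with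
  | zero => simp
  | succ k ih => rw [succ_nsmul, Ext.mk₀_add, Ext.comp_add, ih, Ext.comp_mk₀_id, succ_nsmul]

omit [Fact p.Prime] in
theorem nsmul_eq_zero_of_killed {X Y : C} {n : ℕ} (h : p • 𝟙 Y = 0) (x : Ext X Y n) : p • x = 0 := by
  rw [← comp_mk₀_nsmul, h, Ext.mk₀_zero, Ext.comp_zero]

variable (X : C) {S : ShortComplex C} (hS : S.ShortExact)
include hS

omit [Fact p.Prime] in
theorem isExtP_kernel {Y : C} (e₂ : S.X₂ ≅ Y) (e₃ : S.X₃ ≅ Y) (hg : S.g = e₂.hom ≫ (p • 𝟙 Y) ≫ e₃.inv)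
    (n : ℕ) : IsExtP p (Ext X Y n) (Ext X S.X₁ (n + 1)) (Ext X Y (n + 1)) := by
  have hf : p • 𝟙 S.X₁ = 0 := by
    haveI := hS.mono_f
    rw [← cancel_mono S.f, zero_comp, Preadditive.nsmul_comp, Category.id_comp,
      ← cancel_mono e₂.hom, zero_comp, Preadditive.nsmul_comp]
    have h0 := congrArg (· ≫ e₃.hom) S.zero
    simp only [hg, zero_comp, Category.assoc, Iso.inv_hom_id, Category.comp_id] at h0
    rw [← h0]
    simp
  let c₂ := (Ext.mk₀ e₂.hom).postcomp X (add_zero (n + 1))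
  let c₃ := (Ext.mk₀ e₃.inv).postcomp X (add_zero n)
  refine ⟨nsmul_eq_zero_of_killed hf, (hS.extClass.postcomp X rfl).comp c₃,
    c₂.comp ((Ext.mk₀ S.f).postcomp X (add_zero (n + 1))), fun a => ?_, fun m => ?_, fun b => ?_⟩
  · constructor
    · intro ha
      obtain ⟨y, hy⟩ := Ext.covariant_sequence_exact₃ X hS (a.comp (Ext.mk₀ e₃.inv) (add_zero n)) rfl ha
      refine ⟨y.comp (Ext.mk₀ e₂.hom) (add_zero n), ?_⟩
      have h := congrArg (fun z => z.comp (Ext.mk₀ e₃.hom) (add_zero n)) hy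
      simp only [hg, Ext.comp_assoc_of_third_deg_zero, Ext.mk₀_comp_mk₀, Category.assoc,
        Iso.inv_hom_id, Category.comp_id, Ext.comp_mk₀_id] at h
      rw [← comp_mk₀_nsmul, Ext.comp_assoc_of_third_deg_zero, Ext.mk₀_comp_mk₀]
      exact h
    · rintro ⟨a', rfl⟩
      show ((p • a').comp (Ext.mk₀ e₃.inv) (add_zero n)).comp hS.extClass rfl = 0
      have h : (p • a').comp (Ext.mk₀ e₃.inv) (add_zero n) =
          (a'.comp (Ext.mk₀ e₂.inv) (add_zero n)).comp (Ext.mk₀ S.g) (add_zero n) := by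
        rw [← comp_mk₀_nsmul, hg]
        simp [Ext.comp_assoc_of_third_deg_zero, Ext.mk₀_comp_mk₀]
      rw [h, Ext.comp_assoc_of_second_deg_zero, hS.comp_extClass, Ext.comp_zero]
  · constructor
    · intro hm
      have hm' : m.comp (Ext.mk₀ S.f) (add_zero _) = 0 := by
        have h := congrArg (fun z => z.comp (Ext.mk₀ e₂.inv) (add_zero (n + 1))) hm
        simpa [c₂, Ext.comp_assoc_of_third_deg_zero, Ext.mk₀_comp_mk₀] using h
      obtain ⟨y, hy⟩ := Ext.covariant_sequence_exact₁ X hS m hm' rfl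
      refine ⟨y.comp (Ext.mk₀ e₃.hom) (add_zero n), ?_⟩
      show ((y.comp _ _).comp (Ext.mk₀ e₃.inv) (add_zero n)).comp hS.extClass rfl = m
      simpa [Ext.comp_assoc_of_third_deg_zero, Ext.mk₀_comp_mk₀] using hy
    · rintro ⟨a, rfl⟩
      show (((a.comp (Ext.mk₀ e₃.inv) (add_zero n)).comp hS.extClass rfl).comp (Ext.mk₀ S.f)
        (add_zero (n + 1))).comp (Ext.mk₀ e₂.hom) (add_zero (n + 1)) = 0
      simp [Ext.comp_assoc_of_third_deg_zero, hS.extClass_comp]
  · constructor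
    · intro hb
      have hb' : (b.comp (Ext.mk₀ e₂.inv) (add_zero (n + 1))).comp (Ext.mk₀ S.g) (add_zero (n + 1)) = 0 := by
        rw [← comp_mk₀_nsmul] at hb
        have h := congrArg (fun z => z.comp (Ext.mk₀ e₃.inv) (add_zero (n + 1))) hb
        simp only [hg, Ext.comp_assoc_of_third_deg_zero, Ext.mk₀_comp_mk₀, Iso.inv_hom_id_assoc]
        simpa [Ext.comp_assoc_of_third_deg_zero, Ext.mk₀_comp_mk₀] using h
      obtain ⟨m, hm⟩ := Ext.covariant_sequence_exact₂ X hS _ hb'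
      refine ⟨m, ?_⟩
      show (m.comp (Ext.mk₀ S.f) (add_zero (n + 1))).comp (Ext.mk₀ e₂.hom) (add_zero (n + 1)) = b
      rw [hm]
      simp [Ext.comp_assoc_of_third_deg_zero, Ext.mk₀_comp_mk₀]
    · rintro ⟨m, rfl⟩
      rw [← map_nsmul, nsmul_eq_zero_of_killed hf, map_zero]

omit [Fact p.Prime] in
theorem isExtP_cokernel {Y : C} (e₁ : S.X₁ ≅ Y) (e₂ : S.X₂ ≅ Y)
    (hf : S.f = e₁.hom ≫ (p • 𝟙 Y) ≫ e₂.inv) (n : ℕ) :
    IsExtP p (Ext X Y n) (Ext X S.X₃ n) (Ext X Y (n + 1)) := by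
  have hg : p • 𝟙 S.X₃ = 0 := by
    haveI := hS.epi_g
    rw [← cancel_epi S.g, comp_zero, Preadditive.comp_nsmul, Category.comp_id,
      ← cancel_epi e₂.inv, comp_zero, Preadditive.comp_nsmul]
    have h0 := congrArg (e₁.inv ≫ ·) S.zero
    simp only [hf, comp_zero, Category.assoc, Iso.inv_hom_id_assoc] at h0
    rw [← h0]
    simp
  let c₂ := (Ext.mk₀ e₂.inv).postcomp X (add_zero n)
  let c₁ := (Ext.mk₀ e₁.hom).postcomp X (add_zero (n + 1))
  refine ⟨nsmul_eq_zero_of_killed hg, ((Ext.mk₀ S.g).postcomp X (add_zero n)).comp c₂,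
    c₁.comp (hS.extClass.postcomp X rfl), fun a => ?_, fun m => ?_, fun b => ?_⟩
  · constructor
    · intro ha
      obtain ⟨y, hy⟩ := Ext.covariant_sequence_exact₂ X hS (a.comp (Ext.mk₀ e₂.inv) (add_zero n)) ha
      refine ⟨y.comp (Ext.mk₀ e₁.hom) (add_zero n), ?_⟩
      have h := congrArg (fun z => z.comp (Ext.mk₀ e₂.hom) (add_zero n)) hy
      simp only [hf, Ext.comp_assoc_of_third_deg_zero, Ext.mk₀_comp_mk₀, Category.assoc,
        Iso.inv_hom_id, Category.comp_id, Ext.comp_mk₀_id] at h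
      rw [← comp_mk₀_nsmul, Ext.comp_assoc_of_third_deg_zero, Ext.mk₀_comp_mk₀]
      exact h
    · rintro ⟨a', rfl⟩
      show ((p • a').comp (Ext.mk₀ e₂.inv) (add_zero n)).comp (Ext.mk₀ S.g) (add_zero n) = 0
      have h : (p • a').comp (Ext.mk₀ e₂.inv) (add_zero n) =
          (a'.comp (Ext.mk₀ e₁.inv) (add_zero n)).comp (Ext.mk₀ S.f) (add_zero n) := by
        rw [← comp_mk₀_nsmul, hf]
        simp [Ext.comp_assoc_of_third_deg_zero, Ext.mk₀_comp_mk₀]
      rw [h, Ext.comp_assoc_of_third_deg_zero, Ext.mk₀_comp_mk₀, S.zero, Ext.mk₀_zero, Ext.comp_zero]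
  · constructor
    · intro hm
      have hm' : m.comp hS.extClass rfl = 0 := by
        have h := congrArg (fun z => z.comp (Ext.mk₀ e₁.inv) (add_zero (n + 1))) hm
        simpa [c₁, Ext.comp_assoc_of_third_deg_zero, Ext.mk₀_comp_mk₀] using h
      obtain ⟨y, hy⟩ := Ext.covariant_sequence_exact₃ X hS m rfl hm'
      refine ⟨y.comp (Ext.mk₀ e₂.hom) (add_zero n), ?_⟩
      show ((y.comp _ _).comp (Ext.mk₀ e₂.inv) (add_zero n)).comp (Ext.mk₀ S.g) (add_zero n) = m
      simpa [Ext.comp_assoc_of_third_deg_zero, Ext.mk₀_comp_mk₀] using hy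
    · rintro ⟨a, rfl⟩
      show (((a.comp (Ext.mk₀ e₂.inv) (add_zero n)).comp (Ext.mk₀ S.g) (add_zero n)).comp hS.extClass
        rfl).comp (Ext.mk₀ e₁.hom) (add_zero (n + 1)) = 0
      rw [Ext.comp_assoc_of_second_deg_zero (a.comp (Ext.mk₀ e₂.inv) (add_zero n)) (Ext.mk₀ S.g)
        hS.extClass, hS.comp_extClass, Ext.comp_zero, Ext.zero_comp]
  · constructor
    · intro hb
      have hb' : (b.comp (Ext.mk₀ e₁.inv) (add_zero (n + 1))).comp (Ext.mk₀ S.f) (add_zero (n + 1)) = 0 := by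
        rw [← comp_mk₀_nsmul] at hb
        have h := congrArg (fun z => z.comp (Ext.mk₀ e₂.inv) (add_zero (n + 1))) hb
        simp only [hf, Ext.comp_assoc_of_third_deg_zero, Ext.mk₀_comp_mk₀, Iso.inv_hom_id_assoc]
        simpa [Ext.comp_assoc_of_third_deg_zero, Ext.mk₀_comp_mk₀] using h
      obtain ⟨m, hm⟩ := Ext.covariant_sequence_exact₁ X hS _ hb' rfl
      refine ⟨m, ?_⟩
      show (m.comp hS.extClass rfl).comp (Ext.mk₀ e₁.hom) (add_zero (n + 1)) = b
      rw [hm]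
      simp [Ext.comp_assoc_of_third_deg_zero, Ext.mk₀_comp_mk₀]
    · rintro ⟨m, rfl⟩
      rw [← map_nsmul, nsmul_eq_zero_of_killed hg, map_zero]

end Groth.Agent.GmFppf
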