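import Groth.Agent.GmFppf.Solution

/-!
# The coboundary theorem for finite projective algebras
-/

set_option autoImplicit false
set_option linter.style.haveILetI false

universe u

open TensorProduct

namespace Groth.Agent.GmFppf

variable {A : Type u} [CommRing A] {C D E : Type u} [CommRing C] [Algebra A C] [CommRing D]
  [Algebra A D] [CommRing E] [Algebra A E]

theorem exists_free_away (M : Type u) [AddCommGroup M] [Module A M] [Module.FinitePresentation A M]
    [Module.Flat A M] (p : Ideal A) [p.IsPrime] :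
    ∃ f, f ∉ p ∧ ∀ (A' : Type u) [CommRing A'] [Algebra A A'], IsUnit (algebraMap A A' f) →
      Module.Free A' (A' ⊗[A] M) := by
  haveI : Module.Free (Localization.AtPrime p) (LocalizedModule p.primeCompl M) :=
    Module.free_of_flat_of_isLocalRing
  obtain ⟨f, hf, hfree, -⟩ := Module.FinitePresentation.exists_free_localizedModule_powers
    p.primeCompl (LocalizedModule.mkLinearMap p.primeCompl M) (Localization.AtPrime p)
  refine ⟨f, hf, fun A' _ _ hu => ?_⟩
  let Af := Localization (Submonoid.powers f)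
  letI : Algebra Af A' := (IsLocalization.Away.lift (S := Af) f hu).toAlgebra
  haveI : IsScalarTower A Af A' := IsScalarTower.of_algebraMap_eq fun x =>
    (IsLocalization.Away.lift_eq f hu x).symm
  haveI : Module.Free Af (Af ⊗[A] M) :=
    Module.Free.of_equiv (LocalizedModule.equivTensorProduct (Submonoid.powers f) M)
  exact Module.Free.of_equiv (TensorProduct.AlgebraTensorModule.cancelBaseChange A Af A' A' M)

section Tower

variable {A' : Type u} [CommRing A'] [Algebra A A'] (R : Type u) [CommRing R] [Algebra A R]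
  [Algebra A' R] [IsScalarTower A A' R]

/-- Base change in two steps. -/
noncomputable abbrev cbc : R ⊗[A'] (A' ⊗[A] C) ≃ₐ[R] R ⊗[A] C :=
  Algebra.TensorProduct.cancelBaseChange A A' R R C

theorem cbc_bcA (f : C →ₐ[A] D) (z : R ⊗[A'] (A' ⊗[A] C)) :
    cbc R (bcA R (bcA A' f) z) = bcA R f (cbc R z) := by
  induction z using TensorProduct.induction_on with
  | zero => simp
  | tmul a y =>
    induction y using TensorProduct.induction_on with
    | zero => simp
    | tmul b c => simp
    | add x y hx hy => simp only [tmul_add, map_add, hx, hy]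
  | add x y hx hy => simp only [map_add, hx, hy]

theorem cbc_evP {m : ℕ} (δ : Fin m → C →ₐ[A] D) (z : R ⊗[A'] (A' ⊗[A] C)) :
    cbc R (evP (fun i => bcA A' (δ i)) R z) = evP δ R (cbc R z) := by
  show cbc R (∏ i ∈ evens m, bcA R (bcA A' (δ i)) z) = ∏ i ∈ evens m, bcA R (δ i) (cbc R z)
  rw [map_prod]
  exact Finset.prod_congr rfl fun i _ => cbc_bcA R (δ i) z

theorem cbc_odP {m : ℕ} (δ : Fin m → C →ₐ[A] D) (z : R ⊗[A'] (A' ⊗[A] C)) :
    cbc R (odP (fun i => bcA A' (δ i)) R z) = odP δ R (cbc R z) := by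
  show cbc R (∏ i ∈ odds m, bcA R (bcA A' (δ i)) z) = ∏ i ∈ odds m, bcA R (δ i) (cbc R z)
  rw [map_prod]
  exact Finset.prod_congr rfl fun i _ => cbc_bcA R (δ i) z

end Tower

/-- A cocycle of a complex of finite projective algebras is a coboundary over a smooth algebra with a
point over the field of a homotopy. -/
theorem exists_smooth_solution' {m : ℕ} (δ : Fin m → C →ₐ[A] D) (δ' : Fin (m + 1) → D →ₐ[A] E)
    [Module.Flat A C] [Module.FinitePresentation A C] [Module.Flat A D]
    [Module.FinitePresentation A D] [Module.Flat A E] [Module.FinitePresentation A E]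
    (hdd : ∀ (R : Type u) [CommRing R] [Algebra A R] (x : R ⊗[A] C), IsUnit x →
      evP δ' R (evP δ R x) * odP δ' R (odP δ R x) = odP δ' R (evP δ R x) * evP δ' R (odP δ R x))
    (K : Type u) [Field K] [Algebra A K] (h : K ⊗[A] D →ₐ[K] K ⊗[A] C)
    (h' : K ⊗[A] E →ₐ[K] K ⊗[A] D) (h0 : ∀ y, h' (bcA K (δ' 0) y) = y)
    (hs : ∀ i y, h' (bcA K (δ' (Fin.succ i)) y) = bcA K (δ i) (h y))
    (c : D) (hc : IsUnit c)
    (hcc : ∏ i ∈ evens (m + 1), δ' i c = ∏ i ∈ odds (m + 1), δ' i c) :
    ∃ (R : Type u) (_ : CommRing R) (_ : Algebra A R), Algebra.Smooth A R ∧ Nonempty (R →ₐ[A] K) ∧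
      ∃ x : R ⊗[A] C, IsUnit x ∧ evP δ R x = (1 ⊗ₜ c) * odP δ R x := by
  classical
  let p := RingHom.ker (algebraMap A K)
  haveI : p.IsPrime := RingHom.ker_isPrime _
  obtain ⟨f₁, h₁, F₁⟩ := exists_free_away C p
  obtain ⟨f₂, h₂, F₂⟩ := exists_free_away D p
  obtain ⟨f₃, h₃, F₃⟩ := exists_free_away E p
  let f := f₁ * f₂ * f₃
  have hfp : f ∉ p := fun hf => by
    rcases (‹p.IsPrime›.mem_or_mem hf) with h | h
    · rcases (‹p.IsPrime›.mem_or_mem h) with h | h
      exacts [h₁ h, h₂ h]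
    · exact h₃ h
  let A' := Localization.Away f
  have hu : IsUnit (algebraMap A A' f₁ * algebraMap A A' f₂ * algebraMap A A' f₃) := by
    rw [← map_mul, ← map_mul]
    exact IsLocalization.Away.algebraMap_isUnit f
  rw [IsUnit.mul_iff, IsUnit.mul_iff] at hu
  haveI := F₁ A' hu.1.1
  haveI := F₂ A' hu.1.2
  haveI := F₃ A' hu.2
  have hfK : IsUnit (algebraMap A K f) := isUnit_iff_ne_zero.2 hfp
  letI : Algebra A' K := (IsLocalization.Away.lift (S := A') f hfK).toAlgebra
  haveI : IsScalarTower A A' K := IsScalarTower.of_algebraMap_eq fun x =>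
    (IsLocalization.Away.lift_eq f hfK x).symm
  let eC := cbc (A := A) (A' := A') (C := C) K
  let eD := cbc (A := A) (A' := A') (C := D) K
  let eE := cbc (A := A) (A' := A') (C := E) K
  let H : K ⊗[A'] (A' ⊗[A] D) →ₐ[K] K ⊗[A'] (A' ⊗[A] C) :=
    eC.symm.toAlgHom.comp (h.comp eD.toAlgHom)
  let H' : K ⊗[A'] (A' ⊗[A] E) →ₐ[K] K ⊗[A'] (A' ⊗[A] D) :=
    eD.symm.toAlgHom.comp (h'.comp eE.toAlgHom)
  have hdd' : ∀ (R : Type u) [CommRing R] [Algebra A' R] (x : R ⊗[A'] (A' ⊗[A] C)), IsUnit x →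
      evP (fun i => bcA A' (δ' i)) R (evP (fun i => bcA A' (δ i)) R x) *
        odP (fun i => bcA A' (δ' i)) R (odP (fun i => bcA A' (δ i)) R x) =
      odP (fun i => bcA A' (δ' i)) R (evP (fun i => bcA A' (δ i)) R x) *
        evP (fun i => bcA A' (δ' i)) R (odP (fun i => bcA A' (δ i)) R x) := by
    intro R _ _ x hx
    letI : Algebra A R := ((algebraMap A' R).comp (algebraMap A A')).toAlgebra
    haveI : IsScalarTower A A' R := IsScalarTower.of_algebraMap_eq fun _ => rfl
    apply (cbc (A := A) (A' := A') (C := E) R).injective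
    simp only [map_mul, cbc_evP, cbc_odP]
    exact hdd R _ (hx.map (cbc (A := A) (A' := A') (C := C) R))
  obtain ⟨R, _, _, hsm, ⟨φ⟩, x, hx, hxe⟩ := exists_smooth_solution
    (fun i => bcA A' (δ i)) (fun i => bcA A' (δ' i)) hdd' K H H'
    (fun y => by
      show eD.symm (h' (eE (bcA K (bcA A' (δ' 0)) y))) = y
      rw [cbc_bcA, h0, AlgEquiv.symm_apply_apply])
    (fun i y => by
      show eD.symm (h' (eE (bcA K (bcA A' (δ' (Fin.succ i))) y))) =
        bcA K (bcA A' (δ i)) (eC.symm (h (eD y)))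
      rw [cbc_bcA, hs]
      apply eD.injective
      rw [AlgEquiv.apply_symm_apply, cbc_bcA, AlgEquiv.apply_symm_apply])
    (1 ⊗ₜ c) (hc.map (Algebra.TensorProduct.includeRight : D →ₐ[A] A' ⊗[A] D))
    (by
      simp only [Algebra.TensorProduct.map_tmul, AlgHom.id_apply]
      have e : ∀ s : Finset (Fin (m + 1)), ∏ i ∈ s, ((1 : A') ⊗ₜ[A] δ' i c) = 1 ⊗ₜ ∏ i ∈ s, δ' i c :=
        fun s => (map_prod (Algebra.TensorProduct.includeRight : E →ₐ[A] A' ⊗[A] E) _ s).symm
      rw [e, e, hcc])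
  letI : Algebra A R := ((algebraMap A' R).comp (algebraMap A A')).toAlgebra
  haveI : IsScalarTower A A' R := IsScalarTower.of_algebraMap_eq fun _ => rfl
  haveI : Algebra.IsStandardSmooth A A' := Algebra.IsStandardSmooth.localization_away f
  haveI := hsm
  refine ⟨R, inferInstance, inferInstance, Algebra.Smooth.comp A A' R, ⟨φ.restrictScalars A⟩,
    cbc R x, hx.map (cbc (A := A) (A' := A') (C := C) R), ?_⟩
  rw [← cbc_evP, hxe, map_mul, cbc_odP]
  congr 1
  simp

end Groth.Agent.GmFppf
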