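import Groth.Agent.EtFppfCmp.Sections
import Groth.Agent.EtFppfCmp.GsecDerived

/-!
# fppf cohomology of acyclic sheaves is étale cohomology of their restriction
-/

set_option autoImplicit false
set_option linter.style.haveILetI false
set_option backward.isDefEq.respectTransparency.types false

universe u

open CategoryTheory CategoryTheory.Limits AlgebraicGeometry Opposite CategoryTheory.Abelian

noncomputable section

namespace Groth.Agent.GmFppf

open Groth.Agent.EtaleSite Groth.Agent.EtFppfCmp

variable (X : Scheme.{u})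

/-- The final object of the big site. -/
def overTopTerminal : IsTerminal (Over.mk (𝟙 X)) := Over.mkIdTerminal

/-- The constant sheaf `ℤ` on the big site. -/
abbrev constIntF : EtFppf.AbF X :=
  (constantSheaf (EtFppf.J X) AddCommGrpCat.{u + 1}).obj (AddCommGrpCat.of (ULift.{u + 1} ℤ))

/-- fppf cohomology as a functor. -/
def HFun (n : ℕ) : EtFppf.AbF X ⥤ AddCommGrpCat.{u + 1} :=
  @Sheaf.functorH (Over X) _ (EtFppf.J X)
    (inferInstance : HasSheafify (EtFppf.J X) AddCommGrpCat.{u + 1}) _ n

/-- fppf cohomology as `Ext` out of the constant sheaf. -/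
def HFunIso (n : ℕ) : HFun X n ≅ extFunctorObj (constIntF X) n :=
  NatIso.ofComponents (fun _ => Iso.refl _) (fun {F G} a => by
    ext x
    exact Sheaf.H.map_apply a x)

instance additive_sectFun (T : Over X) : (sectFun T).Additive :=
  haveI : (EtCore.gsec T.left).Additive := inferInstance
  Functor.additive_of_iso (sectResIso T)

theorem preservesFiniteLimits_sectFun (T : Over X) : PreservesFiniteLimits (sectFun T) :=
  haveI := preservesFiniteLimits_resAt T
  haveI : PreservesFiniteLimits (EtCore.gsec T.left) :=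
    haveI := (EtCore.constAdj T.left).rightAdjoint_preservesLimits
    inferInstance
  haveI : PreservesFiniteLimits (resAt T ⋙ EtCore.gsec T.left) := comp_preservesFiniteLimits _ _
  preservesFiniteLimits_of_natIso (sectResIso T)

theorem nonempty_sectFun_rightDerived_iso (n : ℕ) :
    Nonempty ((sectFun (Over.mk (𝟙 X))).rightDerived n ≅ HFun X n) := by
  haveI := preservesFiniteLimits_sectFun X (Over.mk (𝟙 X))
  let s₀ : ∀ G : EtFppf.AbF X, Sheaf.H G 0 ≃+ G.obj.obj (op (Over.mk (𝟙 X))) :=
    fun G => Sheaf.H.equiv₀ G (overTopTerminal X)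
  let e₀ : sectFun (Over.mk (𝟙 X)) ≅ HFun X 0 :=
    NatIso.ofComponents (fun F => (s₀ F).symm.toAddCommGrpIso) (fun {F G} a => by
      ext x
      refine (s₀ G).injective (((s₀ G).apply_symm_apply _).trans ?_)
      refine Eq.trans ?_ (Sheaf.H.equiv₀_naturality (overTopTerminal X) _ _)
      exact congrArg _ ((s₀ F).apply_symm_apply x).symm)
  obtain ⟨e⟩ := Groth.Agent.HyperLib.DerivedHom.nonempty_rightDerived_iso (sectFun (Over.mk (𝟙 X)))
    (Groth.Agent.HyperLib.DerivedHom.extDelta (constIntF X))
    (fun m F => ⟨Injective.under F, Injective.ι F, inferInstance, by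
      ext x
      exact Ext.eq_zero_of_injective _⟩)
    (e₀ ≪≫ HFunIso X 0) n
  exact ⟨e ≪≫ (HFunIso X n).symm⟩

/-- fppf cohomology of an acyclic sheaf is the étale cohomology of its restriction. -/
theorem nonempty_HF_iso (G : EtFppf.AbF X) (hG : Acyc G) (n : ℕ) :
    Nonempty (AddCommGrpCat.of (EtFppf.HF X G n) ≅
      AddCommGrpCat.of (EtCoh.H X ((resAt (Over.mk (𝟙 X))).obj G) n)) := by
  haveI := preservesFiniteLimits_resAt (Over.mk (𝟙 X))
  let I := injectiveResolution G
  obtain ⟨e₁⟩ := nonempty_sectFun_rightDerived_iso X n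
  obtain ⟨e₂⟩ := nonempty_rightDerived_comp (resAt (Over.mk (𝟙 X))) (EtCore.gsec X) I
    (isZero_R_resAt (Over.mk (𝟙 X)) hG) n
  obtain ⟨e₃⟩ := nonempty_gsec_rightDerived_iso X n
  refine ⟨(e₁.app G).symm ≪≫ I.isoRightDerivedObj _ n ≪≫ ?_ ≪≫ e₂ ≪≫ e₃.app _⟩
  exact (HomologicalComplex.homologyFunctor _ _ n).mapIso
    ((NatIso.mapHomologicalComplex (sectResIso (Over.mk (𝟙 X))) (ComplexShape.up ℕ)).app I.cocomplex).symm

end Groth.Agent.GmFppf
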