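import Groth.Agent.GmFppf.HFLeray
import Groth.Agent.EtaleSite.Flasque

/-!
# fppf cohomology over an object of the big site of an acyclic sheaf
-/

set_option autoImplicit false
set_option linter.style.haveILetI false
set_option backward.isDefEq.respectTransparency.types false

universe u

open CategoryTheory CategoryTheory.Limits AlgebraicGeometry Opposite CategoryTheory.Abelian

noncomputable section

namespace Groth.Agent.GmFppf

open Groth.Agent.EtaleSite Groth.Agent.EtFppfCmp

variable {S : Scheme.{u}} (T : Over S)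

/-- The restriction to the big site of an object. -/
abbrev pullT : EtFppf.AbF S ⥤ EtFppf.AbF T.left :=
  BigSite.pullBig Scheme.fppfPrecoverage T.hom AddCommGrpCat.{u + 1}

/-- Sections over the top object of the restriction. -/
def sectPullIso : pullT T ⋙ sectFun (Over.mk (𝟙 T.left)) ≅ sectFun T :=
  NatIso.ofComponents
    (fun G => G.obj.mapIso
      (Over.isoMk (Iso.refl T.left) (by
        show 𝟙 T.left ≫ T.hom = 𝟙 T.left ≫ T.hom
        rfl) : (Over.map T.hom).obj (Over.mk (𝟙 T.left)) ≅ T).symm.op)
    (fun {G H} φ => (φ.hom.naturality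
      (Over.isoMk (Iso.refl T.left) (by
        show 𝟙 T.left ≫ T.hom = 𝟙 T.left ≫ T.hom
        rfl) : (Over.map T.hom).obj (Over.mk (𝟙 T.left)) ≅ T).symm.hom.op).symm)

/-- fppf cohomology over `T` of an acyclic sheaf is the étale cohomology of its restriction. -/
theorem nonempty_HU_iso (G : EtFppf.AbF S) (hG : Acyc G) (n : ℕ) :
    Nonempty (AddCommGrpCat.of (BigSite.HU Scheme.fppfPrecoverage G n T) ≅
      AddCommGrpCat.of (EtCoh.H T.left ((resAt T).obj G) n)) := by
  haveI := preservesFiniteLimits_resAt T
  haveI : PreservesLimitsOfSize.{0, 0} (pullT T) :=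
    (BigSite.shriekAbAdj Scheme.fppfPrecoverage T.hom).rightAdjoint_preservesLimits
  haveI : PreservesFiniteLimits (pullT T) := PreservesLimitsOfSize.preservesFiniteLimits _
  haveI : PreservesColimitsOfSize.{0, 0} (pullT T) :=
    (BigSite.bigAdj Scheme.fppfPrecoverage T.hom AddCommGrpCat.{u + 1}).leftAdjoint_preservesColimits
  haveI : PreservesFiniteColimits (pullT T) := PreservesColimitsOfSize.preservesFiniteColimits _
  haveI := Groth.Agent.BigShriek.preservesInjective_pullBig Scheme.fppfPrecoverage T.hom
  haveI : (pullT T).Additive := Functor.additive_of_preserves_binary_products _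
  let I := injectiveResolution G
  obtain ⟨e₁⟩ := nonempty_sectFun_rightDerived_iso T.left n
  obtain ⟨e₂⟩ := nonempty_rightDerived_comp (pullT T) (sectFun (Over.mk (𝟙 T.left))) I
    (fun m => Flasque.isZero_rightDerived_of_exact (pullT T) m G) n
  obtain ⟨e₃⟩ := nonempty_rightDerived_comp (resAt T) (EtCore.gsec T.left) I (isZero_R_resAt T hG) n
  obtain ⟨e₄⟩ := nonempty_gsec_rightDerived_iso T.left n
  refine ⟨((e₁.app ((pullT T).obj G)).symm ≪≫ e₂.symm) ≪≫ ?_ ≪≫ e₃ ≪≫ e₄.app _⟩
  exact (HomologicalComplex.homologyFunctor _ _ n).mapIso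
    ((NatIso.mapHomologicalComplex (sectPullIso T ≪≫ (sectResIso T).symm) (ComplexShape.up ℕ)).app I.cocomplex)

end Groth.Agent.GmFppf
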