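import Groth.Agent.GmFppf.ExtP
import Groth.Agent.GmFppf.Acyc
import Groth.Agent.GmFppf.HFLeray
import Groth.Agent.AlgSpCov.FppfDescentProps
import Groth.Prelude.Def_EtGm
import Groth.Prelude.Def_Frob

/-!
# The `p`-th power on `G_m` in characteristic `p`: injective for étale, surjective for fppf
-/

set_option autoImplicit false
set_option linter.style.haveILetI false
set_option backward.isDefEq.respectTransparency.types false

universe u

open CategoryTheory CategoryTheory.Limits AlgebraicGeometry Opposite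

noncomputable section

namespace Groth.Agent.GmFppf

open Groth.Agent.EtaleSite Groth.Agent.EtFppfCmp

variable (X : Scheme.{u}) (p : ℕ)

/-- The restriction of `G_m` to the small étale site. -/
def resGmIso : (resAt (Over.mk (𝟙 X))).obj (EtDl.GmF X) ≅ EtCoh.Gm X :=
  (fullyFaithfulSheafToPresheaf X.smallEtaleTopology AddCommGrpCat.{u + 1}).preimageIso
    (X := (resAt (Over.mk (𝟙 X))).obj (EtDl.GmF X)) (Y := EtCoh.Gm X)
    (NatIso.ofComponents (fun _ => Iso.refl _) fun _ => rfl)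

theorem uo_nsmul {W : Over X} (n : ℕ) (x : (EtDl.GmF X).obj.obj (op W)) : uo (n • x) = uo x ^ n := rfl

theorem app_nsmul_id {C : Type (u + 1)} [Category.{u} C] {J : GrothendieckTopology C}
    (G : Sheaf J AddCommGrpCat.{u + 1}) (n : ℕ) (U : Cᵒᵖ) (x : G.obj.obj U) :
    (n • 𝟙 G : G ⟶ G).hom.app U x = n • x := by
  induction n with
  | zero => simp only [zero_smul]; rfl
  | succ k ih =>
    simp only [succ_nsmul]
    exact (congrArg (· + x) ih :)

theorem mem_fppf_of_forall {S : Scheme.{u}} {T : Over S} (R : Sieve T)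
    (h : ∀ v : T.left, ∃ (W : Over S) (g : W ⟶ T), R g ∧ Flat g.left ∧
      LocallyOfFinitePresentation g.left ∧ v ∈ Set.range g.left) :
    R ∈ EtFppf.J S T := by
  choose W g hR hfl hfp hv using h
  refine (GrothendieckTopology.mem_over_iff _ _).2 ?_
  let 𝒰 : Scheme.Cover.{u} (Scheme.precoverage (@Flat ⊓ @LocallyOfFinitePresentation)) T.left :=
    Scheme.Cover.mkOfCovers T.left (fun v => (W v).left) (fun v => (g v).left)
      (fun v => ⟨v, hv v⟩) (fun v => ⟨hfl v, hfp v⟩)
  refine Scheme.mem_grothendieckTopology_iff.2 ⟨𝒰, ?_⟩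
  rintro Z k ⟨v⟩
  refine (Sieve.overEquiv_iff _ _).2 ?_
  have h0 := R.downward_closed (hR v) (Over.homMk (𝟙 (W v).left) (by
    show 𝟙 _ ≫ (W v).hom = (g v).left ≫ T.hom
    rw [Category.id_comp, Over.w (g v)]) : Over.mk ((g v).left ≫ T.hom) ⟶ W v)
  have he : (Over.homMk (𝟙 (W v).left) (by
      show 𝟙 _ ≫ (W v).hom = (g v).left ≫ T.hom
      rw [Category.id_comp, Over.w (g v)]) : Over.mk ((g v).left ≫ T.hom) ⟶ W v) ≫ g v =
      (Over.homMk (g v).left rfl : Over.mk ((g v).left ≫ T.hom) ⟶ T) :=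
    Over.OverMorphism.ext (Category.id_comp _)
  exact (he ▸ h0 :)

theorem exists_root {U : Scheme.{u}} [IsAffine U] (hp : p ≠ 0) (a : Γ(U, ⊤)ˣ) :
    ∃ (W : Scheme.{u}) (g : W ⟶ U) (b : Γ(W, ⊤)ˣ), Flat g ∧ LocallyOfFinitePresentation g ∧
      Surjective g ∧ b ^ p = Units.map g.appTop.hom.toMonoidHom a := by
  by_cases hA : Subsingleton Γ(U, ⊤)
  · refine ⟨U, 𝟙 U, 1, inferInstance, inferInstance, inferInstance, ?_⟩
    ext
    exact Subsingleton.elim _ _
  haveI : Nontrivial Γ(U, ⊤) := not_subsingleton_iff_nontrivial.1 hA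
  let A := Γ(U, ⊤)
  let q : Polynomial A := Polynomial.X ^ p - Polynomial.C a.val
  have hq : q.Monic := Polynomial.monic_X_pow_sub_C _ hp
  let B := AdjoinRoot q
  haveI : Module.Free A B := hq.free_adjoinRoot
  haveI : Module.Finite A B := hq.finite_adjoinRoot
  haveI : Module.FinitePresentation A B := Module.finitePresentation_of_projective A B
  haveI : Algebra.FinitePresentation A B := Algebra.FinitePresentation.of_finitePresentation A B
  haveI : Nontrivial B := by
    refine Ideal.Quotient.nontrivial_iff.2 fun h => hp ?_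
    have h1 : q.natDegree = 0 := by
      rw [hq.eq_one_of_isUnit (Ideal.span_singleton_eq_top.1 h), Polynomial.natDegree_one]
    rwa [Polynomial.natDegree_X_pow_sub_C] at h1
  let φ : A ⟶ CommRingCat.of B := CommRingCat.ofHom (algebraMap A B)
  let g : Spec (CommRingCat.of B) ⟶ U := Spec.map φ ≫ U.isoSpec.inv
  have hff : (algebraMap A B).FaithfullyFlat := RingHom.faithfullyFlat_algebraMap_iff.2 inferInstance
  obtain ⟨h1, h2⟩ := (flat_and_surjective_SpecMap_iff φ).2 hff
  haveI : LocallyOfFinitePresentation (Spec.map φ) :=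
    (LocallyOfFinitePresentation.SpecMap_iff φ).2 (RingHom.finitePresentation_algebraMap.2 inferInstance)
  have hroot : (AdjoinRoot.root q) ^ p = algebraMap A B a.val := by
    have h := AdjoinRoot.eval₂_root q
    rw [Polynomial.eval₂_sub, Polynomial.eval₂_X_pow, Polynomial.eval₂_C, sub_eq_zero] at h
    exact h
  have hu : IsUnit (AdjoinRoot.root q) :=
    (isUnit_pow_iff hp).1 (hroot ▸ (a.isUnit.map (algebraMap A B)))
  let e := (Scheme.ΓSpecIso (CommRingCat.of B)).inv.hom
  refine ⟨Spec (CommRingCat.of B), g, Units.map e.toMonoidHom hu.unit, inferInstance, inferInstance,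
    inferInstance, Units.ext ?_⟩
  rw [Units.val_pow_eq_pow_val]
  show (e (AdjoinRoot.root q)) ^ p = g.appTop.hom a.val
  rw [← map_pow, hroot]
  have hg : g.appTop = φ ≫ (Scheme.ΓSpecIso (CommRingCat.of B)).inv := by
    rw [Scheme.Hom.comp_appTop, Scheme.ΓSpecIso_inv_naturality]
    congr 1
    have h1 : U.isoSpec.inv.appTop ≫ U.isoSpec.hom.appTop = 𝟙 _ := by
      rw [← Scheme.Hom.comp_appTop, Iso.hom_inv_id]
      rfl
    rw [show U.isoSpec.hom.appTop = (Scheme.ΓSpecIso Γ(U, ⊤)).hom from Scheme.toSpecΓ_appTop _] at h1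
    rw [← cancel_mono (Scheme.ΓSpecIso Γ(U, ⊤)).hom, h1, Iso.inv_hom_id]
  rw [hg]
  rfl

theorem epi_nsmul_GmF (hp : p ≠ 0) : Epi (p • 𝟙 (EtDl.GmF X)) := by
  suffices h : Sheaf.IsLocallySurjective (p • 𝟙 (EtDl.GmF X)) from
    (Sheaf.isLocallySurjective_iff_epi' AddCommGrpCat.{u + 1} _).1 h
  constructor
  intro T a
  refine mem_fppf_of_forall _ fun v => ?_
  obtain ⟨U, hU, hvU, -⟩ :=
    exists_isAffineOpen_mem_and_subset (show v ∈ (⊤ : T.left.Opens) from trivial)
  haveI : IsAffine U.toScheme := hU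
  obtain ⟨W, g, b, hfl, hfp, hs, hb⟩ := exists_root p hp (Units.map U.ι.appTop.hom.toMonoidHom (uo a))
  let W' : Over X := Over.mk (g ≫ U.ι ≫ T.hom)
  let g' : W' ⟶ T := Over.homMk (g ≫ U.ι) (Category.assoc _ _ _)
  refine ⟨W', g', ⟨mkU b, ?_⟩, ?_, ?_, ?_⟩
  · refine uo_injective ?_
    rw [app_nsmul_id, uo_nsmul, uo_mkU, uo_map, hb]
    ext
    show g.appTop.hom (U.ι.appTop.hom (uo a).val) = (g ≫ U.ι).appTop.hom (uo a).val
    rw [Scheme.Hom.comp_appTop]
    rfl
  · exact inferInstanceAs (Flat (g ≫ U.ι))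
  · exact inferInstanceAs (LocallyOfFinitePresentation (g ≫ U.ι))
  · obtain ⟨w, hw⟩ := hs.surj (⟨v, hvU⟩ : U.toScheme)
    exact ⟨w, by show (g ≫ U.ι) w = v; rw [Scheme.Hom.comp_apply, hw]; rfl⟩

theorem mono_powMap [Fact p.Prime] [FrobSch.IsCharP X p] [IsReduced X] :
    Mono (EtCoh.powMap X p) := by
  refine (sheafToPresheaf X.smallEtaleTopology AddCommGrpCat.{u + 1}).mono_of_mono_map ?_
  have : ∀ U, Mono ((EtCoh.powMap X p).hom.app U) := fun U => by
    rw [AddCommGrpCat.mono_iff_injective, injective_iff_map_eq_zero]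
    intro x hx
    change (p • 𝟙 (EtCoh.Gm X) : EtCoh.Gm X ⟶ EtCoh.Gm X).hom.app U x = 0 at hx
    rw [app_nsmul_id] at hx
    let V : Scheme.{u} := U.unop.left
    haveI : Etale U.unop.hom := U.unop.prop
    haveI : IsReduced ((Functor.fromPUnit.{0} X).obj U.unop.right) := ‹IsReduced X›
    haveI : FrobSch.IsCharP ((Functor.fromPUnit.{0} X).obj U.unop.right) p := ‹FrobSch.IsCharP X p›
    haveI : IsReduced V := Groth.Agent.AlgSpCov.isReduced_of_smooth U.unop.hom
    haveI : FrobSch.IsCharP V p := FrobSch.IsCharP.of_hom U.unop.hom p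
    let u : Γ(V, ⊤)ˣ := Additive.toMul x.down
    have hu : u.val ^ p = 1 := by
      have h := congrArg (fun z : ULift.{u + 1} (Additive Γ(V, ⊤)ˣ) => (Additive.toMul z.down).val) hx
      rw [← Units.val_pow_eq_pow_val]
      exact h
    have h1 : u.val = 1 := by
      by_cases hV : Subsingleton Γ(V, ⊤)
      · exact Subsingleton.elim _ _
      haveI : Nontrivial Γ(V, ⊤) := not_subsingleton_iff_nontrivial.1 hV
      haveI : CharP Γ(V, ⊤) p := (CharP.charP_iff_prime_eq_zero Fact.out).2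
        (FrobSch.natCast_eq_zero_app V p ⊤)
      have h2 : (u.val - 1) ^ p = 0 := by rw [sub_pow_char, hu, one_pow, sub_self]
      exact sub_eq_zero.1 (IsReduced.eq_zero _ ⟨p, h2⟩)
    exact ULift.ext _ _ (Additive.toMul.injective (Units.ext h1))
  exact @NatTrans.mono_of_mono_app _ _ _ _ _ _ _ this

theorem nonempty_H_Gm_addEquiv (n : ℕ) :
    Nonempty (EtFppf.HF X (EtDl.GmF X) n ≃+ EtCoh.H X (EtCoh.Gm X) n) := by
  obtain ⟨e⟩ := nonempty_HF_iso X (EtDl.GmF X) acyc_GmF n
  exact ⟨(e ≪≫ (EtCoh.HF X n).mapIso (resGmIso X)).addCommGroupIsoToAddEquiv⟩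

end Groth.Agent.GmFppf
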