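import Mathlib

/-!
# Coordinates of base changes, minors and left inverses
-/

set_option autoImplicit false

universe u

open TensorProduct

namespace Groth.Agent.GmFppf

variable {A : Type u} [CommRing A]

section Natural

variable {C : Type u} [AddCommGroup C] [Module A C] {ι : Type*} (b : Module.Basis ι A C)
  {R S : Type u} [CommRing R] [Algebra A R] [CommRing S] [Algebra A S]

theorem repr_map (φ : R →ₗ[A] S) (z : R ⊗[A] C) (i : ι) :
    φ ((b.baseChange R).repr z i) = (b.baseChange S).repr (TensorProduct.map φ LinearMap.id z) i := by
  induction z using TensorProduct.induction_on with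
  | zero => simp
  | tmul x y => simp [map_smul]
  | add x y hx hy => simp [map_add, hx, hy]

end Natural

section Minor

variable {K : Type u} [Field K] {ι κ : Type} [Fintype ι] [Fintype κ]

/-- A matrix has a square minor with unit determinant whose rows detect its image. -/
theorem exists_minor (M : Matrix ι κ K) :
    ∃ (r : ℕ) (rows : Fin r → ι) (cols : Fin r → κ), Function.Injective cols ∧
      IsUnit (M.submatrix rows cols).det ∧
      ∀ t : κ → K, (∀ j, M.mulVec t (rows j) = 0) → M.mulVec t = 0 := by
  classical
  obtain ⟨α, a, ha, hspan, hli⟩ := exists_linearIndependent' K M.col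
  haveI : Finite α := Finite.of_injective a ha
  haveI : Fintype α := Fintype.ofFinite α
  let P : ι → (α → K) := fun j s => M j (a s)
  obtain ⟨β, b, hb, hspan', hli'⟩ := exists_linearIndependent' K P
  haveI : Finite β := Finite.of_injective b hb
  haveI : Fintype β := Fintype.ofFinite β
  -- the selected rows determine all others
  have hdet : ∀ t : α → K, (∀ j : β, ∑ s, M (b j) (a s) * t s = 0) → t = 0 := by
    intro t ht
    let T : (α → K) →ₗ[K] K := ∑ s, (t s) • LinearMap.proj s
    have hT : ∀ p : α → K, T p = ∑ s, p s * t s := fun p => by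
      simp [T, mul_comm]
    have h1 : Submodule.span K (Set.range P) ≤ LinearMap.ker T := by
      rw [← hspan']
      refine Submodule.span_le.2 ?_
      rintro _ ⟨j, rfl⟩
      exact (hT _).trans (ht j)
    have h2 : ∑ s, t s • M.col (a s) = 0 := by
      funext j
      have := h1 (Submodule.subset_span ⟨j, rfl⟩)
      rw [LinearMap.mem_ker, hT] at this
      simpa [P, mul_comm] using this
    exact funext (Fintype.linearIndependent_iff.1 hli t h2)
  -- the selected minor is square
  have hβ : Fintype.card β ≤ Fintype.card α := by
    have h := hli'.fintype_card_le_finrank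
    rwa [Module.finrank_fintype_fun_eq_card] at h
  have hα : Fintype.card α ≤ Fintype.card β := by
    let L : (α → K) →ₗ[K] (β → K) := Matrix.mulVecLin (Matrix.of fun (j : β) (s : α) => M (b j) (a s))
    have hL : Function.Injective L := by
      rw [injective_iff_map_eq_zero]
      intro t ht
      exact hdet t fun j => congrFun ht j
    have h := LinearMap.finrank_le_finrank_of_injective hL
    rwa [Module.finrank_fintype_fun_eq_card, Module.finrank_fintype_fun_eq_card] at h
  let eα : Fin (Fintype.card α) ≃ α := (Fintype.equivFin α).symm
  let eβ : Fin (Fintype.card α) ≃ β :=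
    (finCongr (le_antisymm hα hβ)).trans (Fintype.equivFin β).symm
  refine ⟨Fintype.card α, b ∘ eβ, a ∘ eα, ha.comp eα.injective, ?_, fun t ht => ?_⟩
  · rw [← Matrix.isUnit_iff_isUnit_det, ← Matrix.mulVec_injective_iff_isUnit]
    rw [← Matrix.coe_mulVecLin, injective_iff_map_eq_zero]
    intro t ht
    have : (fun s => t (eα.symm s)) = 0 := hdet _ fun j => by
      have h := congrFun ht (eβ.symm j)
      simp only [Matrix.mulVecLin_apply, Matrix.mulVec, dotProduct, Matrix.submatrix_apply,
        Function.comp_apply, Equiv.apply_symm_apply, Pi.zero_apply] at h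
      rw [← Equiv.sum_comp eα]
      simpa using h
    funext i
    simpa using congrFun this (eα i)
  · -- a combination of the selected columns
    have hmem : M.mulVec t ∈ Submodule.span K (Set.range (M.col ∘ a)) := by
      rw [hspan, ← Matrix.range_mulVecLin]
      exact ⟨t, rfl⟩
    obtain ⟨c, hc⟩ := (Submodule.mem_span_range_iff_exists_fun K).1 hmem
    have hc0 : c = 0 := hdet c fun j => by
      have h1 := congrFun hc (b j)
      have h2 := ht (eβ.symm j)
      simp only [Function.comp_apply, Equiv.apply_symm_apply] at h2
      simp only [Finset.sum_apply, Pi.smul_apply, smul_eq_mul, Function.comp_apply] at h1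
      rw [h2] at h1
      rw [← h1]
      exact Finset.sum_congr rfl fun s _ => mul_comm _ _
    rw [← hc, hc0]
    simp

end Minor

/-- A matrix over a local ring which is injective at a field point has a left inverse. -/
theorem exists_leftInverse {R K : Type u} [CommRing R] [IsLocalRing R] [Field K] (φ : R →+* K)
    [IsLocalHom φ] {ι κ : Type} [Fintype ι] [Fintype κ] [DecidableEq ι] [DecidableEq κ] (M : Matrix ι κ R)
    (h : Function.Injective ((M.map φ).mulVec)) : ∃ L : Matrix κ ι R, L * M = 1 := by
  let ψ : IsLocalRing.ResidueField R →+* K := IsLocalRing.ResidueField.lift φ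
  have hinj : Function.Injective ((M.map (IsLocalRing.residue R)).mulVec) := by
    intro x y hxy
    have hh : (M.map φ).mulVec (ψ ∘ x) = (M.map φ).mulVec (ψ ∘ y) := by
      funext i
      have := congrArg ψ (congrFun hxy i)
      rw [RingHom.map_mulVec, RingHom.map_mulVec, Matrix.map_map] at this
      simpa [ψ, Function.comp_def] using this
    funext i
    exact ψ.injective (congrFun (h hh) i)
  obtain ⟨g, hg⟩ := LinearMap.exists_leftInverse_of_injective
    (Matrix.mulVecLin (M.map (IsLocalRing.residue R))) (LinearMap.ker_eq_bot.2 hinj)
  let L₀ : Matrix κ ι (IsLocalRing.ResidueField R) := LinearMap.toMatrix' g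
  have hL₀ : L₀ * M.map (IsLocalRing.residue R) = 1 := by
    have := congrArg LinearMap.toMatrix' hg
    rw [LinearMap.toMatrix'_comp, LinearMap.toMatrix'_id] at this
    simpa [L₀, Matrix.toLin'_apply', ← Matrix.toLin'_apply'] using this
  choose L hL using fun i j => IsLocalRing.residue_surjective (L₀ i j)
  have hLM : ((Matrix.of L) * M).map (IsLocalRing.residue R) = 1 := by
    rw [Matrix.map_mul, ← hL₀]
    congr 1
    ext i j
    exact hL i j
  have hu : IsUnit ((Matrix.of L) * M).det := by
    apply (isUnit_map_iff (IsLocalRing.residue R) _).1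
    rw [RingHom.map_det, RingHom.mapMatrix_apply, hLM, Matrix.det_one]
    exact isUnit_one
  exact ⟨((Matrix.of L) * M)⁻¹ * Matrix.of L, by rw [Matrix.mul_assoc, Matrix.nonsing_inv_mul _ hu]⟩

end Groth.Agent.GmFppf
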