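import Groth.Agent.GmFppf.Core

/-!
# A multiplicative cocycle is a coboundary after a smooth base change through any homotopy point
-/

set_option autoImplicit false
set_option linter.style.haveILetI false

universe u

open TensorProduct

namespace Groth.Agent.GmFppf

section Combinatorics

variable {M : Type*} [CommMonoid M] {m : ℕ}

@[to_additive]
theorem prod_evens_succ (f : Fin (m + 1) → M) :
    ∏ i ∈ evens (m + 1), f i = f 0 * ∏ i ∈ odds m, f i.succ := by
  simp only [evens, odds, Finset.prod_filter, Fin.prod_univ_succ, Fin.val_zero, Even.zero,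
    if_true, Fin.val_succ, Nat.even_add_one]

@[to_additive]
theorem prod_odds_succ (f : Fin (m + 1) → M) :
    ∏ i ∈ odds (m + 1), f i = ∏ i ∈ evens m, f i.succ := by
  simp only [evens, odds, Finset.prod_filter, Fin.prod_univ_succ, Fin.val_zero, Even.zero,
    not_true_eq_false, if_false, one_mul, Fin.val_succ, Nat.even_add_one, not_not]

end Combinatorics

variable {A : Type u} [CommRing A] {C D E : Type u} [CommRing C] [Algebra A C] [CommRing D]
  [Algebra A D] [CommRing E] [Algebra A E]

section Coord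

variable {ι : Type} (b : Module.Basis ι A C) {R S : Type u} [CommRing R] [Algebra A R] [CommRing S]
  [Algebra A S] (φ : R →ₐ[A] S)

theorem repr_chg (z : R ⊗[A] C) (i : ι) :
    φ ((b.baseChange R).repr z i) = (b.baseChange S).repr (chg C φ z) i := by
  induction z using TensorProduct.induction_on with
  | zero => simp
  | tmul x y => simp [map_smul]
  | add x y hx hy => simp only [map_add, Finsupp.add_apply, hx, hy]

theorem chg_basis (i : ι) : chg C φ ((b.baseChange R) i) = (b.baseChange S) i := by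
  simp [Module.Basis.baseChange_apply]

theorem chg_comp {T : Type u} [CommRing T] [Algebra A T] (ψ : S →ₐ[A] T) (z : R ⊗[A] C) :
    chg C ψ (chg C φ z) = chg C (ψ.comp φ) z := by
  induction z using TensorProduct.induction_on with
  | zero => simp
  | tmul x y => simp
  | add x y hx hy => simp only [map_add, hx, hy]

theorem leftMulMatrix_chg [Fintype ι] [DecidableEq ι] (z : R ⊗[A] C) :
    Algebra.leftMulMatrix (b.baseChange S) (chg C φ z) =
      (Algebra.leftMulMatrix (b.baseChange R) z).map φ := by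
  ext i j
  rw [Matrix.map_apply, Algebra.leftMulMatrix_eq_repr_mul, Algebra.leftMulMatrix_eq_repr_mul,
    repr_chg b φ, map_mul (chg C φ), chg_basis]

theorem isUnit_of_isUnit_det [Fintype ι] [DecidableEq ι] (z : R ⊗[A] C)
    (h : IsUnit (Algebra.leftMulMatrix (b.baseChange R) z).det) : IsUnit z := by
  let β := b.baseChange R
  let M := Algebra.leftMulMatrix β z
  let y : R ⊗[A] C := β.equivFun.symm (M⁻¹.mulVec (β.equivFun 1))
  refine IsUnit.of_mul_eq_one (M := R ⊗[A] C) y ?_
  apply β.equivFun.injective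
  have h1 : M.mulVec (β.repr y) = β.repr (z * y) := Algebra.leftMulMatrix_mulVec_repr β z y
  show (β.repr (z * y) : ι → R) = _
  rw [← h1, show (β.repr y : ι → R) = β.equivFun y from rfl, LinearEquiv.apply_symm_apply,
    Matrix.mulVec_mulVec, Matrix.mul_nonsing_inv _ h, Matrix.one_mulVec]

theorem repr_mem_of_mem_map [Finite ι] (I : Ideal R) {z : R ⊗[A] C}
    (hz : z ∈ I.map (algebraMap R (R ⊗[A] C))) (i : ι) : (b.baseChange R).repr z i ∈ I := by
  have hz' : z ∈ I • (⊤ : Submodule R (R ⊗[A] C)) := by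
    rw [Ideal.smul_top_eq_map]
    exact hz
  clear hz
  induction hz' using Submodule.smul_induction_on' with
  | smul r hr x _ =>
    rw [map_smul, Finsupp.smul_apply, smul_eq_mul]
    exact I.mul_mem_right _ hr
  | add x _ y _ hx hy =>
    rw [map_add, Finsupp.add_apply]
    exact I.add_mem hx hy

end Coord

section Deriv

variable {N : ℕ} {K : Type u} [Field K] [Algebra A K] (ev : MvPolynomial (Fin N) A →ₐ[A] K)
  (l : Fin N)

/-- Differentiation followed by evaluation. -/
noncomputable def dEv (M : Type u) [AddCommGroup M] [Module A M] :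
    MvPolynomial (Fin N) A ⊗[A] M →ₗ[A] K ⊗[A] M :=
  TensorProduct.map (ev.toLinearMap ∘ₗ (MvPolynomial.pderiv l).toLinearMap) LinearMap.id

theorem dEv_tmul {M : Type u} [AddCommGroup M] [Module A M] (p : MvPolynomial (Fin N) A) (x : M) :
    dEv ev l M (p ⊗ₜ x) = ev (MvPolynomial.pderiv l p) ⊗ₜ x := rfl

theorem dEv_mul (a b : MvPolynomial (Fin N) A ⊗[A] D) :
    dEv ev l D (a * b) = dEv ev l D a * chg D ev b + chg D ev a * dEv ev l D b := by
  induction a using TensorProduct.induction_on with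
  | zero => simp
  | tmul p x =>
    induction b using TensorProduct.induction_on with
    | zero => simp
    | tmul q y =>
      simp only [Algebra.TensorProduct.tmul_mul_tmul, dEv_tmul, Algebra.TensorProduct.map_tmul,
        AlgHom.id_apply]
      rw [MvPolynomial.pderiv_mul, map_add, map_mul, map_mul, add_tmul]
    | add q y hq hy => simp only [mul_add, map_add, hq, hy]; ring
  | add p x hp hx => simp only [add_mul, map_add, hp, hx]; ring

theorem dEv_one_tmul (x : D) : dEv ev l D ((1 : MvPolynomial (Fin N) A) ⊗ₜ x) = 0 := by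
  rw [dEv_tmul]
  simp

theorem dEv_bcA (f : C →ₐ[A] D) (z : MvPolynomial (Fin N) A ⊗[A] C) :
    dEv ev l D (bcA _ f z) = bcA K f (dEv ev l C z) := by
  induction z using TensorProduct.induction_on with
  | zero => simp
  | tmul x y => simp [dEv_tmul]
  | add x y hx hy => simp only [map_add, hx, hy]

theorem repr_dEv {ι : Type} (b : Module.Basis ι A D) (z : MvPolynomial (Fin N) A ⊗[A] D) (i : ι) :
    ev (MvPolynomial.pderiv l ((b.baseChange (MvPolynomial (Fin N) A)).repr z i)) =
      (b.baseChange K).repr (dEv ev l D z) i :=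
  repr_map b (ev.toLinearMap ∘ₗ (MvPolynomial.pderiv l).toLinearMap) z i

end Deriv

set_option maxHeartbeats 1600000 in
/-- A cocycle is a coboundary over a smooth algebra with a point over the field of the homotopy. -/
theorem exists_smooth_solution {m : ℕ} (δ : Fin m → C →ₐ[A] D) (δ' : Fin (m + 1) → D →ₐ[A] E)
    [Module.Free A C] [Module.Finite A C] [Module.Free A D] [Module.Finite A D] [Module.Free A E]
    [Module.Finite A E]
    (hdd : ∀ (R : Type u) [CommRing R] [Algebra A R] (x : R ⊗[A] C), IsUnit x →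
      evP δ' R (evP δ R x) * odP δ' R (odP δ R x) = odP δ' R (evP δ R x) * evP δ' R (odP δ R x))
    (K : Type u) [Field K] [Algebra A K] (h : K ⊗[A] D →ₐ[K] K ⊗[A] C)
    (h' : K ⊗[A] E →ₐ[K] K ⊗[A] D) (h0 : ∀ y, h' (bcA K (δ' 0) y) = y)
    (hs : ∀ i y, h' (bcA K (δ' (Fin.succ i)) y) = bcA K (δ i) (h y))
    (c : D) (hc : IsUnit c)
    (hcc : ∏ i ∈ evens (m + 1), δ' i c = ∏ i ∈ odds (m + 1), δ' i c) :
    ∃ (R : Type u) (_ : CommRing R) (_ : Algebra A R), Algebra.Smooth A R ∧ Nonempty (R →ₐ[A] K) ∧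
      ∃ x : R ⊗[A] C, IsUnit x ∧ evP δ R x = (1 ⊗ₜ c) * odP δ R x := by
  classical
  haveI : Nontrivial A := (algebraMap A K).domain_nontrivial
  let bC := Module.finBasis A C
  let bD := Module.finBasis A D
  let bE := Module.finBasis A E
  let bCK := bC.baseChange K
  let bDK := bD.baseChange K
  -- cocycle after base change
  have hcR : ∀ (R : Type u) [CommRing R] [Algebra A R],
      evP δ' R (1 ⊗ₜ c) = odP δ' R (1 ⊗ₜ c) := by
    intro R _ _
    show ∏ i ∈ evens (m + 1), bcA R (δ' i) (1 ⊗ₜ c) = ∏ i ∈ odds (m + 1), bcA R (δ' i) (1 ⊗ₜ c)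
    simp only [Algebra.TensorProduct.map_tmul, AlgHom.id_apply, Algebra.TensorProduct.one_def]
    have e : ∀ s : Finset (Fin (m + 1)), ∏ i ∈ s, ((1 : R) ⊗ₜ[A] δ' i c) = 1 ⊗ₜ ∏ i ∈ s, δ' i c :=
      fun s => (map_prod (Algebra.TensorProduct.includeRight : E →ₐ[A] R ⊗[A] E) _ s).symm
    rw [e, e, hcc]
  have hcu : ∀ (R : Type u) [CommRing R] [Algebra A R], IsUnit ((1 : R) ⊗ₜ[A] c) := fun R _ _ =>
    hc.map (Algebra.TensorProduct.includeRight : D →ₐ[A] R ⊗[A] D)
  -- the solution over the field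
  let cK : K ⊗[A] D := 1 ⊗ₜ c
  let xK : K ⊗[A] C := h cK
  have hxK : evP δ K xK = cK * odP δ K xK := by
    have h1 : h' (evP δ' K cK) = cK * odP δ K xK := by
      show h' (∏ i ∈ evens (m + 1), bcA K (δ' i) cK) = cK * ∏ i ∈ odds m, bcA K (δ i) xK
      rw [map_prod, prod_evens_succ, h0]
      simp only [hs, xK]
    have h2 : h' (odP δ' K cK) = evP δ K xK := by
      show h' (∏ i ∈ odds (m + 1), bcA K (δ' i) cK) = ∏ i ∈ evens m, bcA K (δ i) xK
      rw [map_prod, prod_odds_succ]
      simp only [hs, xK]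
    rw [← h2, ← h1, hcR K]
  have hxKu : IsUnit xK := (hcu K).map h
  obtain ⟨xi, hxi⟩ : ∃ xi : K ⊗[A] C, xK * xi = 1 := isUnit_iff_exists_inv.1 hxKu
  let wK : K ⊗[A] D := evP δ K xK
  have hwK : IsUnit wK := hxKu.map (evP δ K)
  have hexact : ∀ y, dSum δ' K y = 0 → y = dSum δ K (h y) := by
    intro y hy
    have := congrArg h' hy
    rw [dSum_apply, map_zero, map_sub, map_sum, map_sum, sum_evens_succ, sum_odds_succ, h0] at this
    simp only [hs] at this
    rw [dSum_apply]
    linear_combination this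
  -- the differential and a minor
  let Λ : K ⊗[A] C →ₗ[K] K ⊗[A] D :=
    (LinearMap.mulLeft K wK) ∘ₗ (dSum δ K) ∘ₗ (LinearMap.mulRight K xi)
  let M := LinearMap.toMatrix bCK bDK Λ
  obtain ⟨r, rows, cols, hcols, hdet, hrows⟩ := exists_minor M
  have hinj : ∀ y, dSum δ' K y = 0 → (∀ j, bDK.repr (wK * y) (rows j) = 0) → y = 0 := by
    intro y hy hj
    have hΛ : Λ (h y * xK) = wK * y := by
      show wK * dSum δ K (h y * xK * xi) = wK * y
      rw [mul_assoc, hxi, mul_one, ← hexact y hy]
    have hm : M.mulVec (bCK.repr (h y * xK)) = bDK.repr (wK * y) := by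
      rw [LinearMap.toMatrix_mulVec_repr, hΛ]
    have h0' : (bDK.repr (wK * y) : _ → K) = 0 := by
      rw [← hm]
      exact hrows _ fun j => (congrFun hm (rows j)).trans (hj j)
    have : wK * y = 0 := bDK.repr.injective (Finsupp.ext fun i => by
      rw [map_zero, Finsupp.zero_apply]
      exact congrFun h0' i)
    exact hwK.mul_right_eq_zero.1 this
  -- the equations
  let R0 := MvPolynomial (Fin (Module.finrank A C)) A
  let ev : R0 →ₐ[A] K := MvPolynomial.aeval fun l => bCK.repr xK l
  let X : R0 ⊗[A] C := ∑ l, MvPolynomial.X l ⊗ₜ bC l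
  have hX : chg C ev X = xK := by
    conv_rhs => rw [← bCK.sum_repr xK]
    rw [map_sum]
    refine Finset.sum_congr rfl fun l _ => ?_
    rw [Algebra.TensorProduct.map_tmul, Module.Basis.baseChange_apply, TensorProduct.smul_tmul',
      smul_eq_mul, mul_one]
    exact congrArg (fun a => a ⊗ₜ[A] bC l) (MvPolynomial.aeval_X _ _)
  let F : R0 ⊗[A] D := evP δ R0 X - (1 ⊗ₜ c) * odP δ R0 X
  have hF : chg D ev F = 0 := by
    rw [map_sub, map_mul, chg_evP, chg_odP, hX, Algebra.TensorProduct.map_tmul, map_one,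
      AlgHom.id_apply, hxK, sub_self]
  have hL : ∀ l, dEv ev l D F = Λ (bCK l) := by
    intro l
    have hXl : dEv ev l C X = bCK l := by
      rw [map_sum, Finset.sum_eq_single l]
      · rw [dEv_tmul, MvPolynomial.pderiv_X_self, map_one]
        exact (Module.Basis.baseChange_apply _ bC l).symm
      · intro k _ hk
        rw [dEv_tmul, MvPolynomial.pderiv_X_of_ne hk, map_zero, zero_tmul]
      · simp
    have hprod : ∀ s : Finset (Fin m), dEv ev l D (∏ i ∈ s, bcA R0 (δ i) X) =
        (∏ i ∈ s, bcA K (δ i) xK) * ∑ i ∈ s, bcA K (δ i) (bCK l * xi) := by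
      intro s
      rw [deriv_prod (chg D ev : R0 ⊗[A] D →ₐ[A] K ⊗[A] D).toRingHom (fun z => dEv ev l D z)
        (by rw [Algebra.TensorProduct.one_def]; exact dEv_one_tmul ev l 1)
        (dEv_mul ev l) s _ (fun i => bcA K (δ i) (bCK l * xi)) (fun i _ => ?_)]
      · congr 1
        show chg D ev (∏ i ∈ s, bcA R0 (δ i) X) = _
        rw [map_prod]
        simp only [chg_bcA, hX]
      · show dEv ev l D (bcA R0 (δ i) X) = chg D ev (bcA R0 (δ i) X) * _
        rw [dEv_bcA, hXl, chg_bcA, hX, ← map_mul,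
          show xK * (bCK l * xi) = bCK l from by rw [mul_left_comm, hxi, mul_one]]
    show dEv ev l D ((∏ i ∈ evens m, bcA R0 (δ i) X) - (1 ⊗ₜ c) * ∏ i ∈ odds m, bcA R0 (δ i) X) =
      wK * dSum δ K (bCK l * xi)
    rw [map_sub, dEv_mul, dEv_one_tmul, zero_mul, zero_add, hprod, hprod,
      Algebra.TensorProduct.map_tmul, map_one, AlgHom.id_apply, ← mul_assoc, dSum_apply, mul_sub]
    show evP δ K xK * _ - (cK * odP δ K xK) * _ = _
    rw [← hxK]
  let v : Fin r → R0 := fun j => (bD.baseChange R0).repr F (rows j)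
  have hv0 : ∀ j, ev (v j) = 0 := fun j => by
    rw [repr_chg, hF, map_zero, Finsupp.zero_apply]
  have hvd : ∀ i j, ev (MvPolynomial.pderiv (cols i) (v j)) = M (rows j) (cols i) := fun i j => by
    rw [repr_dEv, hL]
    exact (LinearMap.toMatrix_apply bCK bDK Λ (rows j) (cols i)).symm
  -- the smooth algebra
  let P := Algebra.PreSubmersivePresentation.naive (v := v) cols hcols
  let Q := MvPolynomial (Fin (Module.finrank A C)) A ⧸ Ideal.span (Set.range v)
  let jac : R0 := (Matrix.of fun i j => MvPolynomial.pderiv (cols i) (v j)).det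
  let detX : R0 := (Algebra.leftMulMatrix (bC.baseChange R0) X).det
  let q : Q := Ideal.Quotient.mk _ (jac * detX)
  let R := Localization.Away q
  have hPjac : P.jacobian = Ideal.Quotient.mk _ jac := by
    rw [Algebra.PreSubmersivePresentation.jacobian_eq_jacobiMatrix_det]
    show Ideal.Quotient.mk _ P.jacobiMatrix.det = _
    congr 1
    refine congrArg Matrix.det (Matrix.ext fun i j => ?_)
    rw [Algebra.PreSubmersivePresentation.jacobiMatrix_naive]
    rfl
  have hq : IsUnit (algebraMap Q R q) := IsLocalization.Away.algebraMap_isUnit q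
  have hju : IsUnit (algebraMap Q R (Ideal.Quotient.mk _ jac)) ∧
      IsUnit (algebraMap Q R (Ideal.Quotient.mk _ detX)) := by
    rw [← IsUnit.mul_iff, ← map_mul, ← map_mul]
    exact hq
  let P₂ : Algebra.SubmersivePresentation A R (Unit ⊕ Fin (Module.finrank A C)) (Unit ⊕ Fin r) :=
    { (Algebra.PreSubmersivePresentation.localizationAway (R := Q) R q).comp P with
      jacobian_isUnit := by
        rw [Algebra.PreSubmersivePresentation.comp_jacobian_eq_jacobian_smul_jacobian,
          Algebra.PreSubmersivePresentation.localizationAway_jacobian, Algebra.smul_def, hPjac]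
        exact hju.1.mul hq }
  haveI : Algebra.IsStandardSmooth A R := P₂.isStandardSmooth
  let φQ : Q →ₐ[A] K := Ideal.Quotient.liftₐ _ ev fun a ha => by
    have : Ideal.span (Set.range v) ≤ RingHom.ker ev.toRingHom := by
      rw [Ideal.span_le]
      rintro _ ⟨j, rfl⟩
      exact hv0 j
    exact this ha
  have hφq : IsUnit (φQ q) := by
    show IsUnit (ev (jac * detX))
    rw [map_mul]
    refine IsUnit.mul ?_ ?_
    · rw [AlgHom.map_det]
      have : ev.mapMatrix (Matrix.of fun i j => MvPolynomial.pderiv (cols i) (v j)) =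
          (M.submatrix rows cols).transpose := by
        ext i j
        exact hvd i j
      rw [this, Matrix.det_transpose]
      exact hdet
    · rw [AlgHom.map_det, AlgHom.mapMatrix_apply, ← leftMulMatrix_chg, hX]
      exact (Matrix.isUnit_iff_isUnit_det _).1 (hxKu.map _)
  let φR : R →ₐ[A] K := IsLocalization.liftAlgHom (M := Submonoid.powers q) (S := R) (f := φQ)
    (fun y => by
      obtain ⟨n, hn⟩ := (Submonoid.mem_powers_iff _ _).1 y.2
      rw [← hn, map_pow]
      exact hφq.pow n)
  let ρ : R0 →ₐ[A] R := (IsScalarTower.toAlgHom A Q R).comp (Ideal.Quotient.mkₐ A _)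
  have hρ : φR.comp ρ = ev := AlgHom.ext fun p => by
    show φR (algebraMap Q R (Ideal.Quotient.mk _ p)) = ev p
    rw [IsLocalization.liftAlgHom_apply, IsLocalization.lift_eq]
    rfl
  let xR : R ⊗[A] C := chg C ρ X
  have hxRu : IsUnit xR := by
    apply isUnit_of_isUnit_det bC
    rw [leftMulMatrix_chg, ← AlgHom.mapMatrix_apply, ← AlgHom.map_det]
    exact hju.2
  -- localise at the point
  let 𝔭 : Ideal R := RingHom.ker φR.toRingHom
  haveI : 𝔭.IsPrime := RingHom.ker_isPrime _
  let Rp := Localization.AtPrime 𝔭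
  let φp : Rp →ₐ[A] K := IsLocalization.liftAlgHom (M := 𝔭.primeCompl) (S := Rp) (f := φR)
    (fun y => isUnit_iff_ne_zero.2 y.2)
  haveI : IsLocalHom φp.toRingHom := by
    refine ⟨fun a ha => ?_⟩
    obtain ⟨⟨r', s⟩, rfl⟩ := IsLocalization.mk'_surjective 𝔭.primeCompl a
    rw [IsLocalization.AtPrime.isUnit_mk'_iff]
    intro hr
    have h2 : φp (IsLocalization.mk' Rp r' s) * φR s.1 = φR r' := by
      rw [show φR s.1 = φp (algebraMap R Rp s.1) from (IsLocalization.lift_eq _ _).symm,
        ← map_mul, IsLocalization.mk'_spec]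
      exact IsLocalization.lift_eq _ _
    rw [show φR r' = 0 from hr, mul_eq_zero] at h2
    exact h2.elim (fun h3 => ha.ne_zero h3) s.2
  let π : R →ₐ[A] Rp := IsScalarTower.toAlgHom A R Rp
  have hπ : φp.comp π = φR := AlgHom.ext fun p => by
    show φp (algebraMap R Rp p) = φR p
    rw [IsLocalization.liftAlgHom_apply, IsLocalization.lift_eq]
    rfl
  let xp : Rp ⊗[A] C := chg C π xR
  have hxp : chg C φp xp = xK := by rw [chg_comp, chg_comp, hπ, hρ, hX]
  have hxpu : IsUnit xp := hxRu.map (chg C π)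
  let Fp : Rp ⊗[A] D := chg D π (chg D ρ F)
  have hFp : Fp = evP δ Rp xp - (1 ⊗ₜ c) * odP δ Rp xp := by
    simp only [Fp, F, xp, xR, map_sub, map_mul, chg_evP, chg_odP, Algebra.TensorProduct.map_tmul,
      map_one, AlgHom.id_apply]
  obtain ⟨wi, hwi⟩ := isUnit_iff_exists_inv.1 (hxpu.map (evP δ Rp))
  let ε : Rp ⊗[A] D := (1 ⊗ₜ c) * odP δ Rp xp * wi - 1
  have hwε : evP δ Rp xp * ε = - Fp := by
    rw [hFp]
    linear_combination ((1 ⊗ₜ c) * odP δ Rp xp) * hwi
  have hεc : evP δ' Rp (1 + ε) = odP δ' Rp (1 + ε) := by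
    have e1 : (1 + ε) * evP δ Rp xp = (1 ⊗ₜ c) * odP δ Rp xp := by
      linear_combination ((1 ⊗ₜ c) * odP δ Rp xp) * hwi
    have e2 : evP δ' Rp (1 + ε) * evP δ' Rp (evP δ Rp xp) =
        evP δ' Rp (1 ⊗ₜ c) * evP δ' Rp (odP δ Rp xp) := by rw [← map_mul, e1, map_mul]
    have e3 : odP δ' Rp (1 + ε) * odP δ' Rp (evP δ Rp xp) =
        odP δ' Rp (1 ⊗ₜ c) * odP δ' Rp (odP δ Rp xp) := by rw [← map_mul, e1, map_mul]
    have e4 := hdd Rp xp hxpu
    have e5 := hcR Rp
    have hu : IsUnit (odP δ' Rp (evP δ Rp xp) * evP δ' Rp (odP δ Rp xp)) :=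
      ((hxpu.map _).map _).mul ((hxpu.map _).map _)
    refine hu.mul_left_injective ?_
    show evP δ' Rp (1 + ε) * _ = odP δ' Rp (1 + ε) * _
    linear_combination (-(evP δ' Rp (1 + ε))) * e4 + odP δ' Rp (odP δ Rp xp) * e2 -
      evP δ' Rp (odP δ Rp xp) * e3 + (evP δ' Rp (odP δ Rp xp) * odP δ' Rp (odP δ Rp xp)) * e5
  -- Nakayama
  let bDp := bD.baseChange Rp
  let ec : Fin (Module.finrank A D) → Rp := fun k => bDp.repr ε k
  let I : Ideal Rp := Ideal.span (Set.range ec)
  have hε0 : chg D φp ε = 0 := by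
    have h1 : chg D φp (evP δ Rp xp) * chg D φp ε = 0 := by
      rw [← map_mul, hwε, map_neg]
      simp only [Fp, chg_comp, ← AlgHom.comp_assoc, hπ, hρ, hF, neg_zero]
    rw [chg_evP, hxp] at h1
    exact hwK.mul_right_eq_zero.1 h1
  have hImax : I ≤ IsLocalRing.maximalIdeal Rp := by
    rw [Ideal.span_le]
    rintro _ ⟨k, rfl⟩
    refine (IsLocalRing.mem_maximalIdeal _).2 fun hk => ?_
    refine (hk.map φp).ne_zero ?_
    show φp (bDp.repr ε k) = 0
    rw [repr_chg, hε0, map_zero, Finsupp.zero_apply]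
  have hεsum : ∀ i, bcA Rp (δ' i) ε ∈ I.map (algebraMap Rp (Rp ⊗[A] E)) := fun i => by
    rw [← bDp.sum_repr ε, map_sum]
    refine Ideal.sum_mem _ fun k _ => ?_
    rw [map_smul, Algebra.smul_def]
    exact Ideal.mul_mem_right _ _ (Ideal.mem_map_of_mem _ (Ideal.subset_span ⟨k, rfl⟩))
  let Ψ : Matrix (Fin r ⊕ Fin (Module.finrank A E)) (Fin (Module.finrank A D)) Rp :=
    Matrix.of (Sum.elim
      (fun j k => LinearMap.toMatrix bDp bDp (LinearMap.mulLeft Rp (evP δ Rp xp)) (rows j) k)
      (fun e k => LinearMap.toMatrix bDp (bE.baseChange Rp) (dSum δ' Rp) e k))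
  have hΨinj : Function.Injective (Ψ.map φp.toRingHom).mulVec := by
    rw [← Matrix.coe_mulVecLin, injective_iff_map_eq_zero]
    intro t ht
    let y : K ⊗[A] D := bDK.equivFun.symm t
    have hy : (bDK.repr y : _ → K) = t := bDK.equivFun.apply_symm_apply t
    have e1 : ∀ i k, φp (LinearMap.toMatrix bDp bDp (LinearMap.mulLeft Rp (evP δ Rp xp)) i k) =
        LinearMap.toMatrix bDK bDK (LinearMap.mulLeft K wK) i k := fun i k => by
      rw [LinearMap.toMatrix_apply, LinearMap.toMatrix_apply, LinearMap.mulLeft_apply,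
        LinearMap.mulLeft_apply, repr_chg, map_mul, chg_basis, chg_evP, hxp]
    have e2 : ∀ i k, φp (LinearMap.toMatrix bDp (bE.baseChange Rp) (dSum δ' Rp) i k) =
        LinearMap.toMatrix bDK (bE.baseChange K) (dSum δ' K) i k := fun i k => by
      rw [LinearMap.toMatrix_apply, LinearMap.toMatrix_apply, repr_chg, chg_dSum, chg_basis]
    have hd : dSum δ' K y = 0 := by
      refine (bE.baseChange K).repr.injective (Finsupp.ext fun e => ?_)
      have h2 := congrFun ht (Sum.inr e)
      rw [← LinearMap.toMatrix_mulVec_repr bDK (bE.baseChange K), hy]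
      simp only [Matrix.mulVecLin_apply, Matrix.mulVec, dotProduct, Matrix.map_apply, Ψ,
        Matrix.of_apply, Sum.elim_inr, AlgHom.toRingHom_eq_coe, RingHom.coe_coe, e2] at h2
      simpa [Matrix.mulVec, dotProduct] using h2
    have hr : ∀ j, bDK.repr (wK * y) (rows j) = 0 := fun j => by
      have h2 := congrFun ht (Sum.inl j)
      rw [← LinearMap.mulLeft_apply (R := K), ← LinearMap.toMatrix_mulVec_repr bDK bDK, hy]
      simp only [Matrix.mulVecLin_apply, Matrix.mulVec, dotProduct, Matrix.map_apply, Ψ,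
        Matrix.of_apply, Sum.elim_inl, AlgHom.toRingHom_eq_coe, RingHom.coe_coe, e1] at h2
      simpa [Matrix.mulVec, dotProduct] using h2
    rw [← hy, hinj y hd hr]
    simp
  obtain ⟨L, hLΨ⟩ := exists_leftInverse φp.toRingHom Ψ hΨinj
  have hΨε : ∀ i, Ψ.mulVec ec i ∈ I * I := by
    rintro (j | e)
    · have : Ψ.mulVec ec (Sum.inl j) = bDp.repr (evP δ Rp xp * ε) (rows j) := by
        rw [← LinearMap.mulLeft_apply (R := Rp), ← LinearMap.toMatrix_mulVec_repr bDp bDp]
        rfl
      rw [this, hwε, map_neg, Finsupp.neg_apply, neg_mem_iff]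
      have h0v : bDp.repr Fp (rows j) = 0 := by
        simp only [Fp, bDp]
        rw [← repr_chg, ← repr_chg]
        show π (algebraMap Q R (Ideal.Quotient.mk _ (v j))) = 0
        rw [show (Ideal.Quotient.mk (Ideal.span (Set.range v))) (v j) = 0 from
          Ideal.Quotient.eq_zero_iff_mem.2 (Ideal.subset_span ⟨j, rfl⟩), map_zero, map_zero]
      rw [h0v]
      exact zero_mem _
    · have : Ψ.mulVec ec (Sum.inr e) = (bE.baseChange Rp).repr (dSum δ' Rp ε) e := by
        rw [← LinearMap.toMatrix_mulVec_repr bDp (bE.baseChange Rp)]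
        rfl
      rw [this]
      refine repr_mem_of_mem_map bE (I * I) (mk_dSum_eq_zero δ' _ ε (fun i k => ?_) hεc) e
      rw [Ideal.map_mul]
      exact Ideal.mul_mem_mul (hεsum i) (hεsum k)
  have hI : I = ⊥ := by
    refine Submodule.eq_bot_of_le_smul_of_le_jacobson_bot I I
      (Submodule.fg_span (Set.finite_range ec)) ?_ ?_
    · show I ≤ I • I
      conv_lhs => rw [show I = Ideal.span (Set.range ec) from rfl]
      rw [Ideal.span_le]
      rintro _ ⟨k, rfl⟩
      have : ec k = ∑ i, L k i * Ψ.mulVec ec i := by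
        have h2 := congrFun (Matrix.mulVec_mulVec ec L Ψ) k
        rw [hLΨ, Matrix.one_mulVec] at h2
        exact h2.symm
      rw [this]
      exact Ideal.sum_mem _ fun i _ => Ideal.mul_mem_left _ _ (hΨε i)
    · rw [IsLocalRing.jacobson_eq_maximalIdeal ⊥ bot_ne_top]
      exact hImax
  have hεzero : ε = 0 := bDp.repr.injective (Finsupp.ext fun k => by
    rw [map_zero, Finsupp.zero_apply]
    exact (Submodule.eq_bot_iff _).1 hI _ (Ideal.subset_span ⟨k, rfl⟩))
  have hFp0 : Fp = 0 := by
    rw [← neg_eq_zero, ← hwε, hεzero, mul_zero]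
  -- spread out
  let FR : R ⊗[A] D := chg D ρ F
  have hkill : ∀ k, ∃ g : 𝔭.primeCompl, (g : R) * (bD.baseChange R).repr FR k = 0 := fun k => by
    refine (IsLocalization.map_eq_zero_iff 𝔭.primeCompl Rp _).1 ?_
    show π _ = 0
    rw [repr_chg, show chg D π FR = 0 from hFp0, map_zero, Finsupp.zero_apply]
  choose g hg using hkill
  let gg : R := ∏ k, (g k : R)
  let R' := Localization.Away gg
  have hgg : φR gg ≠ 0 := by
    rw [map_prod]
    exact Finset.prod_ne_zero_iff.2 fun k _ => (g k).2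
  let φ' : R' →ₐ[A] K := IsLocalization.liftAlgHom (M := Submonoid.powers gg) (S := R') (f := φR)
    (fun y => by
      obtain ⟨n, hn⟩ := (Submonoid.mem_powers_iff _ _).1 y.2
      rw [← hn, map_pow]
      exact (isUnit_iff_ne_zero.2 hgg).pow n)
  haveI : Algebra.IsStandardSmooth R R' := Algebra.IsStandardSmooth.localization_away gg
  haveI : Algebra.IsStandardSmooth A R' := Algebra.IsStandardSmooth.trans A R R'
  let π' : R →ₐ[A] R' := IsScalarTower.toAlgHom A R R'
  refine ⟨R', inferInstance, inferInstance, inferInstance, ⟨φ'⟩, chg C π' xR, hxRu.map _, ?_⟩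
  have hF' : chg D π' FR = 0 := (bD.baseChange R').repr.injective (Finsupp.ext fun k => by
    rw [← repr_chg, map_zero, Finsupp.zero_apply]
    have hu : IsUnit (π' (g k)) :=
      isUnit_of_dvd_unit (map_dvd π' (Finset.dvd_prod_of_mem (fun k => (g k : R)) (Finset.mem_univ k)))
        (show IsUnit (algebraMap R R' gg) from IsLocalization.Away.algebraMap_isUnit gg)
    refine hu.mul_right_eq_zero.1 ?_
    rw [← map_mul, hg k, map_zero])
  simp only [FR, F, map_sub, map_mul, chg_evP, chg_odP, Algebra.TensorProduct.map_tmul, map_one,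
    AlgHom.id_apply, sub_eq_zero] at hF'
  exact hF'

end Groth.Agent.GmFppf
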